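import Groth.Agent.GrassSub.Bridge
import Groth.Agent.GrassRep.QuotBC
import Groth.Agent.GrassRep.MapOfEpi
import Groth.Agent.LocFree.ExtFunctor
import Groth.Agent.LocFree.ExtPullback
import Groth.Agent.OmegaSheaf.IsoLocal

/-!
# The Plücker morphism of a Grassmannian is a closed immersion
-/

set_option autoImplicit false
set_option linter.style.haveILetI false

universe u

open CategoryTheory Limits AlgebraicGeometry TopologicalSpace
open Groth.LocFree (extPow extHom extHom_wedge extHom_comp pullExtHom pullExtHom_pullSec wedge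
  extPow_hom_ext)
open Groth.PicAux (pullSec pullSec_map pullSec_comp)

noncomputable section

namespace Groth.GrassSub

section ExtPull

variable {X Y Z : Scheme.{u}} (r : ℕ)

/-- Morphisms out of a pulled back exterior power are determined on pulled back wedges. -/
theorem hom_ext_pullExt (f : Y ⟶ X) {E : X.Modules} {M : Y.Modules}
    {φ ψ : (Scheme.Modules.pullback f).obj (extPow r E) ⟶ M}
    (h : ∀ (U : X.Opens) (e : Fin r → Γ(E, U)),
      φ.app (f ⁻¹ᵁ U) (pullSec f (extPow r E) (wedge r E e)) =
        ψ.app (f ⁻¹ᵁ U) (pullSec f (extPow r E) (wedge r E e))) : φ = ψ := by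
  refine ((Scheme.Modules.pullbackPushforwardAdjunction f).homEquiv _ _).injective
    (extPow_hom_ext r E fun U e => ?_)
  rw [Adjunction.homEquiv_unit, Adjunction.homEquiv_unit]
  exact h U e

/-- The comparison of exterior powers and inverse images is natural. -/
theorem pullExtHom_natural (f : Y ⟶ X) {E E' : X.Modules} (φ : E ⟶ E') :
    (Scheme.Modules.pullback f).map (extHom r φ) ≫ pullExtHom f r E' =
      pullExtHom f r E ≫ extHom r ((Scheme.Modules.pullback f).map φ) := by
  refine hom_ext_pullExt r f fun U e => ?_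
  change (pullExtHom f r E').app (f ⁻¹ᵁ U) (((Scheme.Modules.pullback f).map (extHom r φ)).app _
      (pullSec f (extPow r E) (wedge r E e))) =
    (extHom r ((Scheme.Modules.pullback f).map φ)).app _ ((pullExtHom f r E).app _
      (pullSec f (extPow r E) (wedge r E e)))
  rw [pullSec_map, extHom_wedge, pullExtHom_pullSec, pullExtHom_pullSec, extHom_wedge]
  exact congrArg _ (funext fun j => (pullSec_map f φ (e j)).symm)

theorem pullbackComp_inv_pullSec (f : Z ⟶ Y) (g : Y ⟶ X) (M : X.Modules) {U : X.Opens}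
    (m : Γ(M, U)) :
    ((Scheme.Modules.pullbackComp f g).inv.app M).app ((f ≫ g) ⁻¹ᵁ U) (pullSec (f ≫ g) M m) =
      pullSec f ((Scheme.Modules.pullback g).obj M) (pullSec g M m) := by
  rw [← pullSec_comp f g M m]
  exact congr(($(Iso.hom_inv_id_app (Scheme.Modules.pullbackComp f g) M)).app (f ⁻¹ᵁ g ⁻¹ᵁ U)
    (pullSec f ((Scheme.Modules.pullback g).obj M) (pullSec g M m)))

/-- The comparison of exterior powers and inverse images composes. -/
theorem pullExtHom_comp (f : Z ⟶ Y) (g : Y ⟶ X) (E : X.Modules) :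
    (Scheme.Modules.pullbackComp f g).inv.app (extPow r E) ≫
        (Scheme.Modules.pullback f).map (pullExtHom g r E) ≫
          pullExtHom f r ((Scheme.Modules.pullback g).obj E) =
      pullExtHom (f ≫ g) r E ≫ extHom r ((Scheme.Modules.pullbackComp f g).inv.app E) := by
  refine hom_ext_pullExt r (f ≫ g) fun U e => ?_
  change (pullExtHom f r _).app _ (((Scheme.Modules.pullback f).map (pullExtHom g r E)).app _
      (((Scheme.Modules.pullbackComp f g).inv.app (extPow r E)).app _
        (pullSec (f ≫ g) (extPow r E) (wedge r E e)))) =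
    (extHom r ((Scheme.Modules.pullbackComp f g).inv.app E)).app _
      ((pullExtHom (f ≫ g) r E).app _ (pullSec (f ≫ g) (extPow r E) (wedge r E e)))
  rw [pullbackComp_inv_pullSec, pullExtHom_pullSec, extHom_wedge]
  have h1 := pullSec_map f (pullExtHom g r E) (pullSec g (extPow r E) (wedge r E e))
  refine (congrArg ((pullExtHom f r _).app _) h1).trans ?_
  rw [pullExtHom_pullSec]
  refine (pullExtHom_pullSec f r _ _).trans ?_
  exact congrArg _ (funext fun j => (pullbackComp_inv_pullSec f g E (e j)).symm)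

variable {T G : Scheme.{u}}

/-- The Plücker quotient of a quotient. -/
def plk (g : T ⟶ X) {E : X.Modules} {L : T.Modules}
    (s : (Scheme.Modules.pullback g).obj E ⟶ L) :
    (Scheme.Modules.pullback g).obj (extPow r E) ⟶ extPow r L :=
  pullExtHom g r E ≫ extHom r s

/-- Plücker quotients commute with base change. -/
theorem quotBC_plk {π : G ⟶ X} {h : T ⟶ G} {g : T ⟶ X} (hg : h ≫ π = g) {E : X.Modules}
    {Q : G.Modules} (q : (Scheme.Modules.pullback π).obj E ⟶ Q) :
    Grass.quotBC hg (plk r π q) ≫ pullExtHom h r Q = plk r g (Grass.quotBC hg q) := by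
  subst hg
  simp only [Grass.quotBC, GrassRep.pullbackCongr_rfl_inv, Category.id_comp, plk, Functor.map_comp,
    Category.assoc, pullExtHom_natural, extHom_comp]
  rw [reassoc_of% (pullExtHom_comp r h π E)]

end ExtPull

section Mono

variable {T : Scheme.{u}} {r : ℕ} {V Q Q' : T.Modules}

/-- A quotient is determined by its top exterior power. -/
theorem kernel_comp_eq_zero [V.IsQuasicoherent] (hQ' : FlatMod.IsFinLocFreeOfRank r Q')
    (s : V ⟶ Q) (s' : V ⟶ Q') [Epi s'] (ψ : extPow r Q ⟶ extPow r Q')
    (h : extHom r s ≫ ψ = extHom r s') : kernel.ι s ≫ s' = 0 := by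
  have := KTheory.LocFree.isQCoh (LocFree.isFinLocFree_of_rank hQ')
  choose U b hU hx hb using LocFree.exists_affine_basis_ofRank hQ'
  refine GrassRep.hom_eq_zero_of_affines _ U (fun x => ⟨x, hx x⟩) fun x W hW hWU t => ?_
  classical
  let v := (kernel.ι s).app W t
  have hv : s.app W v = 0 := congr(($(kernel.condition s)).app W t)
  let B := LocFree.basisOfBasis' (hb x) hWU
  choose y hy using fun j => QCohMod.app_surjective_of_epi s' hW (B j)
  refine B.ext_elem fun i => ?_
  show B.repr (s'.app W v) i = _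
  rw [map_zero, Finsupp.zero_apply]
  -- the wedge with the other basis vectors vanishes
  have h0 : LocFree.wedge r Q' (fun j => s'.app W (Function.update y i v j)) = 0 := by
    have h1 := congr(($h).app W (wedge r V (Function.update y i v)))
    refine ((extHom_wedge r s' W _).symm.trans (h1.symm.trans ?_))
    refine (congrArg (ψ.app W) (extHom_wedge r s W _)).trans ?_
    rw [show wedge r Q (fun j => s.app W (Function.update y i v j)) = 0 from ?_, map_zero]
    simp only [wedge, LocFree.ewedge]
    rw [(exteriorPower.ιMulti _ r).map_coord_zero i (by rw [Function.update_self]; exact hv), map_zero]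
  have h2 : exteriorPower.ιMulti Γ(T, W) r (fun j => s'.app W (Function.update y i v j)) = 0 := by
    refine (LocFree.extUnit_bijective r Q' hW).1 ?_
    exact h0.trans (map_zero _).symm
  have h3 := congrArg (exteriorPower.alternatingMapLinearEquiv B.det) h2
  rw [exteriorPower.alternatingMapLinearEquiv_apply_ιMulti, map_zero] at h3
  have h4 : (fun j => s'.app W (Function.update y i v j)) = Function.update (fun j => B j) i (s'.app W v) := by
    funext j
    rcases eq_or_ne j i with rfl | hj
    · simp
    · simp [Function.update_of_ne hj, hy]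
  rw [h4, ← B.sum_repr (s'.app W v), AlternatingMap.map_update_sum] at h3
  rw [Finset.sum_eq_single i] at h3
  · rw [AlternatingMap.map_update_smul, Function.update_eq_self, B.det_self, smul_eq_mul,
      mul_one] at h3
    exact h3
  · intro j _ hj
    rw [AlternatingMap.map_update_smul, B.det.map_update_self (fun j => B j) (Ne.symm hj), smul_zero]
  · simp

end Mono

section Plucker

variable {S G : Scheme.{u}} {π : G ⟶ S} {E : S.Modules} {r : ℕ} {Q : G.Modules}
  {q : (Scheme.Modules.pullback π).obj E ⟶ Q}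

/-- Exterior powers of epimorphisms are epimorphisms. -/
theorem epi_extHom {Y : Scheme.{u}} {M N : Y.Modules} [M.IsQuasicoherent] [N.IsQuasicoherent]
    (r : ℕ) (φ : M ⟶ N) [Epi φ] : Epi (extHom r φ) := by
  have := LocFree.isQCoh_extPow r M
  have := LocFree.isQCoh_extPow r N
  refine OmegaSheaf.epi_of_affine_cover _ fun x => ?_
  obtain ⟨U, hU, hx⟩ := QCohMod.exists_affine_mem x
  refine ⟨U, hU, hx, fun z => ?_⟩
  obtain ⟨w, rfl⟩ := (LocFree.extUnit_bijective r N hU).2 z
  have hsurj := exteriorPower.map_surjective (n := r)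
    (show Function.Surjective (QCohMod.appₗ φ U) from QCohMod.app_surjective_of_epi φ hU)
  obtain ⟨w', rfl⟩ := hsurj w
  refine ⟨LocFree.extUnit r M U w', ?_⟩
  refine LinearMap.congr_fun (f := (QCohMod.appₗ (extHom r φ) U).comp (LocFree.extUnit r M U))
    (g := (LocFree.extUnit r N U).comp (exteriorPower.map r (QCohMod.appₗ φ U)))
    (exteriorPower.linearMap_ext (AlternatingMap.ext fun e => ?_)) w'
  simp only [LinearMap.compAlternatingMap_apply, LinearMap.comp_apply,
    exteriorPower.map_apply_ιMulti]
  exact extHom_wedge r φ U e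

/-- Grassmannians are unique up to isomorphism over the base. -/
theorem exists_iso_of_isGrass {G' : Scheme.{u}} {π' : G' ⟶ S} {Q' : G'.Modules}
    {q' : (Scheme.Modules.pullback π').obj E ⟶ Q'} (hG : Grass.IsGrass π E r Q q)
    (hG' : Grass.IsGrass π' E r Q' q') : ∃ h : G ⟶ G', IsIso h ∧ h ≫ π' = π := by
  obtain ⟨h, ⟨hh, e, he⟩, -⟩ := hG'.univ G π Q hG.rank q hG.epi
  obtain ⟨h', ⟨hh', e', he'⟩, -⟩ := hG.univ G' π' Q' hG'.rank q' hG'.epi
  have key : ∀ {A B : Scheme.{u}} {πA : A ⟶ S} {πB : B ⟶ S} {QA : A.Modules} {QB : B.Modules}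
      {qA : (Scheme.Modules.pullback πA).obj E ⟶ QA} {qB : (Scheme.Modules.pullback πB).obj E ⟶ QB}
      (_ : Grass.IsGrass πA E r QA qA) (a : A ⟶ B) (b : B ⟶ A) (ha : a ≫ πB = πA) (hb : b ≫ πA = πB)
      (ea : (Scheme.Modules.pullback a).obj QB ≅ QA) (eb : (Scheme.Modules.pullback b).obj QA ≅ QB),
      Grass.quotBC ha qB ≫ ea.hom = qA → Grass.quotBC hb qA ≫ eb.hom = qB → a ≫ b = 𝟙 A := by
    intro A B πA πB QA QB qA qB hA a b ha hb ea eb hea heb
    refine (hA.univ A πA QA hA.rank qA hA.epi).unique ⟨by rw [Category.assoc, hb, ha],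
      ((Scheme.Modules.pullbackComp a b).app QA).symm ≪≫ (Scheme.Modules.pullback a).mapIso eb ≪≫ ea,
      ?_⟩ ⟨Category.id_comp _, (Scheme.Modules.pullbackId A).app QA,
        GrassRep.quotBC_id (Category.id_comp _) qA⟩
    rw [Iso.trans_hom, Iso.trans_hom, Iso.symm_hom, Iso.app_inv, Functor.mapIso_hom,
      ← Category.assoc _ ((Scheme.Modules.pullback a).map _), ← Category.assoc (Grass.quotBC _ _),
      GrassRep.quotBC_base_change ha hb qA _ _ heb, hea]
  exact ⟨h, ⟨h', key hG h h' hh hh' e e' he he', key hG' h' h hh' hh e' e he' he⟩, hh⟩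

/-- The Plücker quotient of the universal quotient. -/
def plkQuot {L : S.Modules} (ε : extPow r E ≅ L) (q : (Scheme.Modules.pullback π).obj E ⟶ Q) :
    (Scheme.Modules.pullback π).obj L ⟶ extPow r Q :=
  (Scheme.Modules.pullback π).map ε.inv ≫ plk r π q

theorem epi_plkQuot [E.IsQuasicoherent] (hG : Grass.IsGrass π E r Q q) {L : S.Modules}
    (ε : extPow r E ≅ L) : Epi (plkQuot ε q) := by
  have := hG.epi
  have := KTheory.LocFree.isQCoh (LocFree.isFinLocFree_of_rank hG.rank)
  have := epi_extHom r q
  exact epi_comp' (inferInstance) (epi_comp' (inferInstance) inferInstance)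

/-- A morphism of a proper Grassmannian which induces the Plücker quotient is a closed immersion. -/
theorem isClosedImmersion_plucker [E.IsQuasicoherent] (hG : Grass.IsGrass π E r Q q) [IsProper π]
    {L : S.Modules} (ε : extPow r E ≅ L) {P : Scheme.{u}} {πP : P ⟶ S} [IsSeparated πP]
    {O1 : P.Modules} (w : (Scheme.Modules.pullback πP).obj L ⟶ O1) (c : G ⟶ P) (hc : c ≫ πP = π)
    (e : (Scheme.Modules.pullback c).obj O1 ≅ extPow r Q)
    (he : Grass.quotBC hc w ≫ e.hom = plkQuot ε q) : IsClosedImmersion c := by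
  have := hG.epi
  have := KTheory.LocFree.isQCoh (LocFree.isFinLocFree_of_rank hG.rank)
  have : IsProper (c ≫ πP) := by rw [hc]; infer_instance
  have : IsProper c := IsProper.of_comp c πP
  have : Mono c := by
    refine ⟨fun {T} a b hab => ?_⟩
    have hag : a ≫ π = b ≫ π := by rw [← hc, reassoc_of% hab]
    let g := b ≫ π
    let sa := Grass.quotBC hag q
    let sb := Grass.quotBC (rfl : b ≫ π = g) q
    have hea : Epi sa := GrassRep.epi_quotBC _ _
    have heb : Epi sb := GrassRep.epi_quotBC _ _
    have hQa := LocFree.isFinLocFreeOfRank_pullback a hG.rank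
    have hQb := LocFree.isFinLocFreeOfRank_pullback b hG.rank
    -- both compositions classify the Plücker quotient
    have key : ∀ (x : T ⟶ G) (hx : x ≫ π = g) (hxc : (x ≫ c) ≫ πP = g),
        Grass.quotBC hxc w ≫ ((Scheme.Modules.pullbackComp x c).inv.app O1 ≫
          (Scheme.Modules.pullback x).map e.hom ≫ pullExtHom x r Q) =
          (Scheme.Modules.pullback g).map ε.inv ≫ plk r g (Grass.quotBC hx q) := by
      intro x hx hxc
      rw [← Category.assoc _ ((Scheme.Modules.pullback x).map e.hom),
        ← Category.assoc (Grass.quotBC _ _), GrassRep.quotBC_base_change hx hc w _ _ he]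
      show Grass.quotBC hx ((Scheme.Modules.pullback π).map ε.inv ≫ plk r π q) ≫ _ = _
      rw [GrassRep.quotBC_map hx, Category.assoc, quotBC_plk]
    have ha := key a hag (by rw [Category.assoc, hc, hag])
    have hb := key b rfl (by rw [Category.assoc, hc])
    rw [GrassRep.quotBC_congr hab] at ha
    simp only [Category.assoc] at ha
    -- an isomorphism of the top exterior powers
    let ψ₁ := (Scheme.Modules.pullbackCongr hab).inv.app O1 ≫
      (Scheme.Modules.pullbackComp a c).inv.app O1 ≫
        (Scheme.Modules.pullback a).map e.hom ≫ pullExtHom a r Q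
    let ψ₂ := (Scheme.Modules.pullbackComp b c).inv.app O1 ≫
        (Scheme.Modules.pullback b).map e.hom ≫ pullExtHom b r Q
    have hψ : extHom r sa ≫ (inv ψ₁ ≫ ψ₂) = extHom r sb := by
      rw [← cancel_epi (pullExtHom g r E), ← cancel_epi ((Scheme.Modules.pullback g).map ε.inv),
        ← Category.assoc (pullExtHom g r E), ← Category.assoc ((Scheme.Modules.pullback g).map ε.inv)]
      show ((Scheme.Modules.pullback g).map ε.inv ≫ plk r g sa) ≫ inv ψ₁ ≫ ψ₂ =
        (Scheme.Modules.pullback g).map ε.inv ≫ plk r g sb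
      rw [← ha, ← hb]
      simp only [Category.assoc]
      show Grass.quotBC _ w ≫ ψ₁ ≫ inv ψ₁ ≫ ψ₂ = _
      rw [IsIso.hom_inv_id_assoc]
      rfl
    have hψ' : extHom r sb ≫ (inv ψ₂ ≫ ψ₁) = extHom r sa := by
      rw [← hψ]
      simp
    have k1 := kernel_comp_eq_zero hQb sa sb _ hψ
    have k2 := kernel_comp_eq_zero hQa sb sa _ hψ'
    let d := Abelian.epiDesc sa sb k1
    let d' := Abelian.epiDesc sb sa k2
    have hd : sa ≫ d = sb := Abelian.comp_epiDesc _ _ _
    have hd' : sb ≫ d' = sa := Abelian.comp_epiDesc _ _ _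
    let θ : (Scheme.Modules.pullback a).obj Q ≅ (Scheme.Modules.pullback b).obj Q :=
      ⟨d, d', (cancel_epi sa).1 (by rw [reassoc_of% hd, hd', Category.comp_id]),
        (cancel_epi sb).1 (by rw [reassoc_of% hd', hd, Category.comp_id])⟩
    exact (hG.univ T g _ hQb sb heb).unique ⟨hag, θ, hd⟩ ⟨rfl, Iso.refl _, Category.comp_id _⟩
  exact (IsClosedImmersion.iff_isProper_and_mono c).2 ⟨‹_›, ‹_›⟩


/-- The Plücker morphism into any projective bundle of the exterior power is a closed immersion. -/
theorem exists_plucker (hE : FlatMod.IsFinLocFree E) (hG : Grass.IsGrass π E r Q q) [IsProper π]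
    {L : S.Modules} (hL : ExtPow.IsExtPow r E L) {P : Scheme.{u}} {πP : P ⟶ S} {O1 : P.Modules}
    {w : (Scheme.Modules.pullback πP).obj L ⟶ O1} (hP : KRR.IsProjBundle πP L O1 w) :
    ∃ c : G ⟶ P, IsClosedImmersion c ∧ c ≫ πP = π := by
  have := KTheory.LocFree.isQCoh hE
  obtain ⟨ε⟩ := LocFree.nonempty_iso_extPow hL
  have hP' := Grass.IsGrass.of_isProjBundle hP
  -- properness of the projective bundle
  obtain ⟨P₀, π₀, Q₀, q₀, hp₀, hP₀⟩ := exists_isGrass
    (KTheory.LocFree.isCoh (LocFree.isFinLocFree_of_isExtPow hE hL)) 1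
  obtain ⟨i, hi, hiw⟩ := exists_iso_of_isGrass hP' hP₀
  have hPp : IsProper πP := by rw [← hiw]; infer_instance
  -- the Plücker quotient
  have hs := epi_plkQuot hG ε
  have hrk : FlatMod.IsFinLocFreeOfRank 1 (extPow r Q) :=
    Nat.choose_self r ▸ LocFree.isFinLocFreeOfRank_extPow hG.rank r
  obtain ⟨c, ⟨hc, e, he⟩, -⟩ := hP'.univ G π (extPow r Q) hrk (plkQuot ε q) hs
  exact ⟨c, isClosedImmersion_plucker hG ε w c hc e he, hc⟩

end Plucker

end Groth.GrassSub
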