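import Groth.Agent.GrassSub.Scheme
import Groth.Prelude.Def_GrassD

/-!
# Quotient maps on a scheme over the base and submodules of the pulled back module
-/

set_option autoImplicit false
set_option linter.style.haveILetI false

universe u

open CategoryTheory Limits AlgebraicGeometry TopologicalSpace
open Groth.Quot

noncomputable section

namespace Groth.GrassSub

variable {S : Scheme.{u}} {E : S.Modules}

instance isIso_XTproj_id (T : Over S) : IsIso (PicF.XTproj (𝟙 S) T) :=
  inferInstanceAs (IsIso (pullback.snd (𝟙 S) T.hom))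

theorem XTproj_hom (T : Over S) :
    PicF.XTproj (𝟙 S) T ≫ T.hom = pullback.fst (𝟙 S) T.hom :=
  (pullback.condition (f := 𝟙 S) (g := T.hom)).symm.trans (Category.comp_id _)

/-- A quotient map and a submodule define the same quotient. -/
def Related (T : Over S) {L : T.left.Modules} (s : (Scheme.Modules.pullback T.hom).obj E ⟶ L)
    (K : Subobject (FGA.ET (𝟙 S) E T)) : Prop :=
  ∃ φ : (Scheme.Modules.pullback (PicF.XTproj (𝟙 S) T)).obj L ≅ cokernel K.arrow,
    (canP (XTproj_hom T) E).inv ≫ (Scheme.Modules.pullback (PicF.XTproj (𝟙 S) T)).map s ≫ φ.hom =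
      cokernel.π K.arrow

theorem Related.comp_iso {T : Over S} {L L' : T.left.Modules}
    {s : (Scheme.Modules.pullback T.hom).obj E ⟶ L} {K : Subobject (FGA.ET (𝟙 S) E T)}
    (h : Related T s K) (e : L ≅ L') : Related T (s ≫ e.hom) K := by
  obtain ⟨φ, hφ⟩ := h
  refine ⟨(Scheme.Modules.pullback _).mapIso e.symm ≪≫ φ, ?_⟩
  rw [Iso.trans_hom, Functor.mapIso_hom, Iso.symm_hom, ← Functor.map_comp_assoc, Category.assoc,
    e.hom_inv_id, Category.comp_id, hφ]

theorem Related.exists_iso {T : Over S} {L L' : T.left.Modules}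
    {s : (Scheme.Modules.pullback T.hom).obj E ⟶ L} {s' : (Scheme.Modules.pullback T.hom).obj E ⟶ L'}
    {K : Subobject (FGA.ET (𝟙 S) E T)} (h : Related T s K) (h' : Related T s' K) :
    ∃ e : L ≅ L', s ≫ e.hom = s' := by
  obtain ⟨φ, hφ⟩ := h
  obtain ⟨φ', hφ'⟩ := h'
  have := isEquivalence_pullback_of_isIso (PicF.XTproj (𝟙 S) T)
  let G := Scheme.Modules.pullback (PicF.XTproj (𝟙 S) T)
  refine ⟨G.preimageIso (φ ≪≫ φ'.symm), G.map_injective ?_⟩
  rw [G.map_comp, Functor.preimageIso_hom, Functor.map_preimage, Iso.trans_hom, Iso.symm_hom,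
    ← cancel_mono φ'.hom, ← cancel_epi (canP (XTproj_hom T) E).inv]
  simp only [Category.assoc, Iso.inv_hom_id, Category.comp_id]
  rw [hφ, hφ']

theorem Related.unique {T : Over S} {L : T.left.Modules}
    {s : (Scheme.Modules.pullback T.hom).obj E ⟶ L} {K K' : Subobject (FGA.ET (𝟙 S) E T)}
    (h : Related T s K) (h' : Related T s K') : K = K' := by
  obtain ⟨φ, hφ⟩ := h
  obtain ⟨φ', hφ'⟩ := h'
  exact subobject_eq_of_cokernel_iso φ.inv φ'.inv (by
    rw [← hφ, ← hφ']
    simp only [Category.assoc, Iso.hom_inv_id])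

theorem exists_related {T : Over S} {L : T.left.Modules}
    (s : (Scheme.Modules.pullback T.hom).obj E ⟶ L) [Epi s] :
    ∃ K : Subobject (FGA.ET (𝟙 S) E T), Related T s K := by
  let j := PicF.XTproj (𝟙 S) T
  have := Grass.epi_pullback_map j s
  let u := (canP (XTproj_hom T) E).inv ≫ (Scheme.Modules.pullback j).map s
  let K := kernelSubobject u
  let d : cokernel K.arrow ⟶ _ := cokernel.desc _ u (kernelSubobject_arrow_comp u)
  have hd : cokernel.π K.arrow ≫ d = u := cokernel.π_desc _ _ _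
  have : IsIso d := by
    have : Epi d := epi_of_epi_fac hd
    have : Mono d := by
      have h0 : (ShortComplex.mk K.arrow u (kernelSubobject_arrow_comp u)).Exact :=
        (ShortComplex.mk K.arrow u (kernelSubobject_arrow_comp u)).exact_of_f_is_kernel
          (IsLimit.ofIsoLimit (kernelIsKernel u)
            (Fork.ext (kernelSubobjectIso u).symm (by simp [K])))
      exact h0.mono_cokernelDesc
    exact isIso_of_mono_of_epi d
  refine ⟨K, (asIso d).symm, ?_⟩
  rw [← Category.assoc]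
  show u ≫ inv d = _
  rw [IsIso.comp_inv_eq, hd]

theorem exists_quotient {T : Over S} (K : Subobject (FGA.ET (𝟙 S) E T)) :
    ∃ (L : T.left.Modules) (s : (Scheme.Modules.pullback T.hom).obj E ⟶ L), Epi s ∧
      Related T s K := by
  have := isEquivalence_pullback_of_isIso (PicF.XTproj (𝟙 S) T)
  let G := Scheme.Modules.pullback (PicF.XTproj (𝟙 S) T)
  let η := G.objObjPreimageIso (cokernel K.arrow)
  let s : (Scheme.Modules.pullback T.hom).obj E ⟶ G.objPreimage (cokernel K.arrow) :=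
    G.preimage ((canP (XTproj_hom T) E).hom ≫ cokernel.π K.arrow ≫ η.inv)
  have hs : G.map s = (canP (XTproj_hom T) E).hom ≫ cokernel.π K.arrow ≫ η.inv := G.map_preimage _
  refine ⟨_, s, ?_, η, ?_⟩
  · refine G.epi_of_epi_map ?_
    rw [hs]
    infer_instance
  · rw [hs]
    simp

set_option maxHeartbeats 1000000 in
/-- Relatedness is stable under base change. -/
theorem Related.baseChange {T T' : Over S} (g : T' ⟶ T) {L : T.left.Modules}
    {s : (Scheme.Modules.pullback T.hom).obj E ⟶ L} {K : Subobject (FGA.ET (𝟙 S) E T)}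
    (h : Related T s K) :
    Related T' (Grass.quotBC (Over.w g) s) (FGA.quotPull (𝟙 S) E g K) := by
  obtain ⟨φ, hφ⟩ := h
  obtain ⟨θ, hθ⟩ := exists_quotPull_cokernel_iso (𝟙 S) g K
  let m := PicF.XTmap (𝟙 S) g
  let j := PicF.XTproj (𝟙 S) T
  let j' := PicF.XTproj (𝟙 S) T'
  let M := Scheme.Modules.pullback m
  let J := Scheme.Modules.pullback j'
  have hc : m ≫ j = j' ≫ g.left := (isPullback_XTmap (𝟙 S) g).w
  have hp : (j' ≫ g.left) ≫ T.hom = pullback.fst (𝟙 S) T'.hom := by
    rw [Category.assoc, Over.w g]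
    exact XTproj_hom T'
  let a := j' ≫ g.left
  let Φ : J.obj ((Scheme.Modules.pullback g.left).obj L) ≅
      cokernel (FGA.quotPull (𝟙 S) E g K).arrow :=
    canP (rfl : j' ≫ g.left = a) L ≪≫ (canP hc L).symm ≪≫ M.mapIso φ ≪≫ θ
  refine ⟨Φ, ?_⟩
  let P := (Scheme.Modules.pullback T.hom).obj E
  -- the two prefixes
  have h1 : J.map (canP (Over.w g) E).hom ≫ (canP (XTproj_hom T') E).hom =
      (canP (rfl : j' ≫ g.left = a) P).hom ≫ (canP hp E).hom :=
    canP_assoc (Over.w g) (XTproj_hom T') rfl hp E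
  have h2 : M.map (canP (XTproj_hom T) E).hom ≫ (FGA.ETiso (𝟙 S) E g).hom =
      (canP hc P).hom ≫ (canP hp E).hom :=
    canP_assoc (XTproj_hom T) (FGA.XTmap_fst (𝟙 S) g) hc hp E
  have n1 : J.map ((Scheme.Modules.pullback g.left).map s) ≫ (canP (rfl : j' ≫ g.left = a) L).hom =
      (canP (rfl : j' ≫ g.left = a) P).hom ≫ (Scheme.Modules.pullback a).map s :=
    canP_naturality _ s
  have n2 : M.map ((Scheme.Modules.pullback j).map s) ≫ (canP hc L).hom =
      (canP hc P).hom ≫ (Scheme.Modules.pullback a).map s :=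
    canP_naturality _ s
  have e1 : (canP (XTproj_hom T') E).inv ≫ J.map (canP (Over.w g) E).inv ≫
      (canP (rfl : j' ≫ g.left = a) P).hom = (canP hp E).inv := by
    rw [← cancel_mono (canP hp E).hom]
    simp only [Category.assoc]
    rw [← h1, ← J.map_comp_assoc, Iso.inv_hom_id, J.map_id, Category.id_comp, Iso.inv_hom_id,
      Iso.inv_hom_id]
  have e2 : (FGA.ETiso (𝟙 S) E g).inv ≫ M.map (canP (XTproj_hom T) E).inv ≫
      (canP hc P).hom = (canP hp E).inv := by
    rw [← cancel_mono (canP hp E).hom]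
    simp only [Category.assoc]
    rw [← h2, ← M.map_comp_assoc, Iso.inv_hom_id, M.map_id, Category.id_comp, Iso.inv_hom_id,
      Iso.inv_hom_id]
  have hq : Grass.quotBC (Over.w g) s =
      (canP (Over.w g) E).inv ≫ (Scheme.Modules.pullback g.left).map s := by
    simp [Grass.quotBC, canP, Category.assoc]
  rw [hq, J.map_comp, Category.assoc]
  simp only [Φ, Iso.trans_hom, Iso.symm_hom, Functor.mapIso_hom]
  rw [reassoc_of% n1, reassoc_of% e1]
  have h3 : (Scheme.Modules.pullback a).map s ≫ (canP hc L).inv =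
      (canP hc P).inv ≫ M.map ((Scheme.Modules.pullback j).map s) := by
    rw [Iso.comp_inv_eq, Category.assoc, n2, Iso.inv_hom_id_assoc]
  rw [reassoc_of% h3, ← e2]
  simp only [Category.assoc, Iso.hom_inv_id_assoc]
  rw [← M.map_comp_assoc, ← M.map_comp_assoc, Category.assoc, hφ, hθ, Iso.inv_hom_id_assoc]

/-- A universal submodule gives a universal quotient. -/
theorem exists_isGrass_of_universal {d : ℕ} {G : Over S} {K : Subobject (FGA.ET (𝟙 S) E G)}
    (hr : FlatMod.IsFinLocFreeOfRank d (cokernel K.arrow))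
    (huniv : ∀ (T : Over S) (K' : Subobject (FGA.ET (𝟙 S) E T)),
      FlatMod.IsFinLocFreeOfRank d (cokernel K'.arrow) →
        ∃! g : T ⟶ G, FGA.quotPull (𝟙 S) E g K = K') :
    ∃ (Q : G.left.Modules) (q : (Scheme.Modules.pullback G.hom).obj E ⟶ Q),
      Grass.IsGrass G.hom E d Q q := by
  obtain ⟨Q, q, hq, hrel⟩ := exists_quotient K
  have hQ : FlatMod.IsFinLocFreeOfRank d Q := by
    obtain ⟨φ, -⟩ := hrel
    refine isFinLocFreeOfRank_cover fun x =>
      ⟨_, PicF.XTproj (𝟙 S) G, inferInstance, ⟨inv (PicF.XTproj (𝟙 S) G) x, ?_⟩,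
        LocFree.isFinLocFreeOfRank_of_iso φ.symm hr⟩
    rw [← Scheme.Hom.comp_apply, IsIso.inv_hom_id]
    rfl
  refine ⟨Q, q, ⟨hQ, hq, fun T g L hL s hs => ?_⟩⟩
  obtain ⟨K', hK'⟩ := exists_related (T := Over.mk g) s
  have hr' : FlatMod.IsFinLocFreeOfRank d (cokernel K'.arrow) := by
    obtain ⟨φ, -⟩ := hK'
    exact LocFree.isFinLocFreeOfRank_of_iso φ (LocFree.isFinLocFreeOfRank_pullback _ hL)
  obtain ⟨h, hh, huniq⟩ := huniv (Over.mk g) K' hr'
  obtain ⟨e, he⟩ := (hh ▸ hrel.baseChange h).exists_iso hK'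
  refine ⟨h.left, ⟨Over.w h, e, he⟩, fun h' ⟨hg', e', he'⟩ => ?_⟩
  let g' : Over.mk g ⟶ G := Over.homMk h' hg'
  have h1 : Related (Over.mk g) s (FGA.quotPull (𝟙 S) E g' K) := by
    have := (hrel.baseChange g').comp_iso e'
    exact he' ▸ this
  exact congrArg CommaMorphism.left (huniq g' (h1.unique hK'))

/-- The Grassmannian of a coherent module exists and is proper. -/
theorem exists_isGrass (hE : Coh.IsCoh E) (d : ℕ) :
    ∃ (G : Scheme.{u}) (π : G ⟶ S) (Q : G.Modules) (q : (Scheme.Modules.pullback π).obj E ⟶ Q),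
      IsProper π ∧ Grass.IsGrass π E d Q q := by
  obtain ⟨G, K, hGp, hr, huniv⟩ := exists_universal hE d
  obtain ⟨Q, q, hq⟩ := exists_isGrass_of_universal hr huniv
  exact ⟨G.left, G.hom, Q, q, hGp, hq⟩

end Groth.GrassSub
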