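import Groth.Agent.GrassSub.Dict
import Groth.Agent.GrassRep.Abstract
import Groth.Agent.GrassRep.Linked
import Groth.Agent.KTheory.PerfFree

/-!
# The Grassmannian of a coherent module over an affine base, as a scheme of submodules
-/

set_option autoImplicit false
set_option linter.style.haveILetI false
set_option linter.unusedSectionVars false

universe u

open CategoryTheory Limits AlgebraicGeometry TopologicalSpace TensorProduct
open Groth.GrassRep (Pt ptMap grass pts pts_natural exists_ptMap exists_cover Natural)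
open Groth.Quot

noncomputable section

namespace Groth.GrassSub

/-- The rank of a quotient is stable under pullback. -/
theorem isFinLocFreeOfRank_quotPull {X S : Scheme.{u}} (f : X ⟶ S) {E : X.Modules} {d : ℕ}
    {T T' : Over S} (g : T' ⟶ T) {K : Subobject (FGA.ET f E T)}
    (h : FlatMod.IsFinLocFreeOfRank d (cokernel K.arrow)) :
    FlatMod.IsFinLocFreeOfRank d (cokernel (FGA.quotPull f E g K).arrow) := by
  obtain ⟨θ, -⟩ := exists_quotPull_cokernel_iso f g K
  exact LocFree.isFinLocFreeOfRank_of_iso θ (LocFree.isFinLocFreeOfRank_pullback _ h)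

/-- Rank is local on an open cover. -/
theorem isFinLocFreeOfRank_cover {X : Scheme.{u}} {M : X.Modules} {n : ℕ}
    (h : ∀ x : X, ∃ (U : Scheme.{u}) (j : U ⟶ X) (_ : IsOpenImmersion j),
      x ∈ Set.range j ∧ FlatMod.IsFinLocFreeOfRank n ((Scheme.Modules.pullback j).obj M)) :
    FlatMod.IsFinLocFreeOfRank n M := by
  intro x
  obtain ⟨U, j, _, ⟨w, rfl⟩, hfl⟩ := h x
  obtain ⟨W, hW, ⟨e⟩⟩ := LocFree.isFinLocFreeOfRank_of_iso
    ((Scheme.Modules.restrictFunctorIsoPullback j).app M).symm hfl w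
  let l := W.ι ≫ j
  let k := l.isoOpensRange.inv
  obtain ⟨f⟩ := Groth.KTheory.Perf.nonempty_restrict_free k e
  let i₁ := (Scheme.Modules.restrictFunctorCongr (l.isoOpensRange_inv_comp.symm :
    l.opensRange.ι = k ≫ l)).app M
  exact ⟨l.opensRange, ⟨⟨w, hW⟩, rfl⟩, ⟨i₁ ≪≫ (Scheme.Modules.restrictFunctorComp k l).app M ≪≫
    (Scheme.Modules.restrictFunctor k).mapIso ((Scheme.Modules.restrictFunctorComp W.ι j).app M) ≪≫ f⟩⟩

variable {R : Type u} [CommRing R] {E : (S₀ R).Modules} {N d : ℕ}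
  (e : Fin N → Γ(E, (⊤ : (S₀ R).Opens)))

/-- The condition on points is cut out by ideals. -/
theorem exists_ideal_cond (A : CommAlgCat.{u} R) (g : Pt A ⟶ GG R N d) :
    ∃ I : Ideal A, ∀ (B : CommAlgCat.{u} R) (φ : A ⟶ B),
      Cond e B (pts R (Fin N → R) d B (ptMap φ ≫ g)) ↔ I ≤ RingHom.ker φ.hom.toRingHom := by
  let N₀ := pts R (Fin N → R) d A g
  let z : (Fin N → Γ(S₀ R, ⊤)) → A ⊗[R] (Fin N → R) := fun r =>
    (vec R A N).symm fun l => toA A (r l)
  obtain ⟨I, hI⟩ := GrassRep.exists_ideal N₀ (z '' (rel₀ e : Set (Fin N → Γ(S₀ R, ⊤))))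
  refine ⟨I, fun B φ => ?_⟩
  rw [pts_natural, ← hI B φ.hom]
  have hz : ∀ r, vec R B N (GrassRep.iota φ.hom (z r)) = fun l => toA B (r l) := fun r => by
    rw [vec_iota]
    funext l
    rw [← map_toA φ (r l)]
    simp [z]
  constructor
  · rintro h _ ⟨r, hr, rfl⟩
    obtain ⟨y, hy, he⟩ := h r hr
    rw [← hz r] at he
    exact (vec R B N).injective he ▸ hy
  · intro h r hr
    exact ⟨_, h _ ⟨r, hr, rfl⟩, hz r⟩

set_option maxHeartbeats 1000000 in
/-- Locally free quotients of rank `d` of a coherent module over an affine base are represented by a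
closed subscheme of a free Grassmannian. -/
theorem exists_universal_of_gens [E.IsQuasicoherent] (hE : Coh.IsCoh E) (hd : d ≤ N)
    (hgen : Function.Surjective (Fintype.linearCombination Γ(S₀ R, ⊤) e)) :
    ∃ (G : Over (S₀ R)) (K : Subobject (FGA.ET (f₀ R) E G)), IsProper G.hom ∧
      FlatMod.IsFinLocFreeOfRank d (cokernel K.arrow) ∧
      ∀ (T : Over (S₀ R)) (K' : Subobject (FGA.ET (f₀ R) E T)),
        FlatMod.IsFinLocFreeOfRank d (cokernel K'.arrow) →
          ∃! g : T ⟶ G, FGA.quotPull (f₀ R) E g K = K' := by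
  obtain ⟨KG, hKG, hKGp⟩ := exists_family (R := R) (d := d) (f₀ R) (vv e) hE
    (KTheory.LocFree.isCoh (LocFree.isFinLocFree_unit _))
  obtain ⟨Z, c, hc, hZ⟩ := GrassRep.exists_closed_of_ideals (GG R N d)
    (fun A g => Cond e A (pts R (Fin N → R) d A g)) (exists_ideal_cond e)
  have he : Natural (grass R (Fin N → R) d) (pts R (Fin N → R) d) := fun A B φ g g' h => by
    obtain rfl := (GrassRep.left_eq_iff φ g g').1 h
    exact (pts_natural A B φ g).trans (by rw [Module.Grassmannian.functor_map]; rfl)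
  have : IsProper (GG R N d).hom := GrassRep.isProper_free hd he
  have := hc
  have hZp : IsProper Z.hom := by
    rw [← Over.w c]
    infer_instance
  have hcond : ∀ (A : CommAlgCat.{u} R) (z : Pt A ⟶ Z),
      Cond e A (pts R (Fin N → R) d A (z ≫ c)) := fun A z => (hZ A _).1 ⟨z, rfl⟩
  let KZ := FGA.quotPull (f₀ R) E c KG
  have hKZp : ∀ (A : CommAlgCat.{u} R) (z : Pt A ⟶ Z),
      FGA.quotPull (f₀ R) E z KZ = kOf (f₀ R) (vv e) A (pts R (Fin N → R) d A (z ≫ c)) :=
    fun A z => by rw [quotPull_comp, hKGp]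
  -- the quotient on the closed subscheme is locally free
  have hrank : FlatMod.IsFinLocFreeOfRank d (cokernel KZ.arrow) := by
    obtain ⟨ι, A, t, hop, hcov⟩ := exists_cover Z
    have hcohZ : Coh.IsCoh (cokernel KZ.arrow) := by
      obtain ⟨θ, -⟩ := exists_quotPull_cokernel_iso (f₀ R) c KG
      exact QCohMod.isCoh_of_iso θ (FlatStrata.isCoh_pullback _ hKG)
    refine isFinLocFreeOfRank_cover fun x => ?_
    obtain ⟨i, hi⟩ := hcov (PicF.XTproj (f₀ R) Z x)
    refine ⟨_, PicF.XTmap (f₀ R) (t i), inferInstance, (mem_opensRange_XTmap (f₀ R) (t i) x).2 hi, ?_⟩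
    obtain ⟨θ, -⟩ := exists_quotPull_cokernel_iso (f₀ R) (t i) KZ
    refine LocFree.isFinLocFreeOfRank_of_iso θ.symm ?_
    rw [hKZp]
    exact (kOf_facts e (A i) hgen hE _ (hcond (A i) (t i))).1
  refine ⟨Z, KZ, hZp, hrank, fun T K' hK' => ?_⟩
  obtain ⟨ι, A, t, hop, hcov⟩ := exists_cover T
  choose N₀ hN₀ hC hk using fun i => exists_point e (A i) hgen (FGA.quotPull (f₀ R) E (t i) K')
    (isFinLocFreeOfRank_quotPull (f₀ R) (t i) hK')
  have hz : ∀ i, ∃ z : Pt (A i) ⟶ Z, z ≫ c = (pts R (Fin N → R) d (A i)).symm (N₀ i) :=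
    fun i => (hZ (A i) _).2 (by rw [Equiv.apply_symm_apply]; exact hC i)
  choose z hzc using hz
  have hinj : ∀ (B : CommAlgCat.{u} R) (a b : Pt B ⟶ Z),
      FGA.quotPull (f₀ R) E a KZ = FGA.quotPull (f₀ R) E b KZ → a = b := fun B a b hab => by
    rw [hKZp, hKZp] at hab
    have hab' : a ≫ c = b ≫ c := (pts R (Fin N → R) d B).injective (Nvec_injective (by
      rw [← (kOf_facts e B hgen hE _ (hcond B a)).2, ← (kOf_facts e B hgen hE _ (hcond B b)).2,
        hab]))
    exact Over.OverMorphism.ext ((cancel_mono c.left).1 (congrArg CommaMorphism.left hab'))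
  have hzK : ∀ i, FGA.quotPull (f₀ R) E (z i) KZ = FGA.quotPull (f₀ R) E (t i) K' := fun i => by
    rw [hKZp, hzc, Equiv.apply_symm_apply, hk]
  obtain ⟨g, hg⟩ := GrassRep.exists_glue t hcov z fun i j B a b hab => hinj B _ _ (by
    rw [← quotPull_comp, ← quotPull_comp, hzK, hzK, quotPull_comp, quotPull_comp, hab])
  refine ⟨g, eq_of_cover (f₀ R) t hcov _ _ fun i => by rw [quotPull_comp, hg, hzK],
    fun g' hg' => ?_⟩
  refine Over.OverMorphism.ext ((GrassRep.coverOf (fun i => (t i).left) hcov).hom_ext _ _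
    fun i => ?_)
  refine congrArg CommaMorphism.left (?_ : t i ≫ g' = t i ≫ g)
  exact hinj _ _ _ (by rw [← quotPull_comp, hg', hg, hzK])

/-- Locally free quotients of rank `d` of a coherent module over an affine base are representable. -/
theorem exists_universal_affine (R : Type u) [CommRing R] (E : (S₀ R).Modules) (hE : Coh.IsCoh E)
    (d : ℕ) :
    ∃ (G : Over (S₀ R)) (K : Subobject (FGA.ET (f₀ R) E G)), IsProper G.hom ∧
      FlatMod.IsFinLocFreeOfRank d (cokernel K.arrow) ∧
      ∀ (T : Over (S₀ R)) (K' : Subobject (FGA.ET (f₀ R) E T)),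
        FlatMod.IsFinLocFreeOfRank d (cokernel K'.arrow) →
          ∃! g : T ⟶ G, FGA.quotPull (f₀ R) E g K = K' := by
  have := hE.1
  obtain ⟨m, s, hs⟩ := Submodule.fg_iff_exists_fin_generating_family.1
    (QCohMod.finite_sections E hE.2 (isAffineOpen_top (S₀ R))).fg_top
  refine exists_universal_of_gens (N := d + m) (Fin.append (fun _ => 0) s) hE (Nat.le_add_right d m)
    fun y => ?_
  obtain ⟨c, rfl⟩ := (Submodule.mem_span_range_iff_exists_fun _).1
    (hs.ge (Submodule.mem_top : y ∈ (⊤ : Submodule Γ(S₀ R, ⊤) Γ(E, ⊤))))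
  refine ⟨Fin.append (fun _ => 0) c, ?_⟩
  rw [Fintype.linearCombination_apply, Fin.sum_univ_add]
  simp

end Groth.GrassSub
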