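import Groth.Agent.GrassSub.Plucker
import Groth.Agent.Ega2Proj.AffineBC
import Groth.Agent.CohBase.IdealOfClosed
import Groth.Agent.OmegaSheaf.IsoLocal

/-!
# The direct images of the structure sheaves in squares over an affine morphism
-/

set_option autoImplicit false
set_option linter.style.haveILetI false

universe u

open CategoryTheory Limits AlgebraicGeometry TopologicalSpace
open Groth.CohBase (unitPush unitPush_app)
open Groth.PicAux (pullSec pullSec_map res)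

noncomputable section

namespace Groth.GrassSub

variable {T T' T'' Z Z' Z'' : Scheme.{u}}

/-- Maps of sections of equal morphisms agree. -/
theorem appLE_congr_hom {f f' : Z' ⟶ Z} (h : f = f') (U : Z.Opens) (V : Z'.Opens)
    (e : V ≤ f ⁻¹ᵁ U) (e' : V ≤ f' ⁻¹ᵁ U) (x : Γ(Z, U)) : f.appLE U V e x = f'.appLE U V e' x := by
  subst h
  rfl

theorem appLE_appLE {X Y W : Scheme.{u}} (f : X ⟶ Y) (g : Y ⟶ W) (U : W.Opens) (V : Y.Opens)
    (R : X.Opens) (e₁ : V ≤ g ⁻¹ᵁ U) (e₂ : R ≤ f ⁻¹ᵁ V) (x : Γ(W, U)) :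
    f.appLE V R e₂ (g.appLE U V e₁ x) =
      (f ≫ g).appLE U R (e₂.trans (f.preimage_mono e₁)) x :=
  ConcreteCategory.congr_hom (Scheme.Hom.appLE_comp_appLE f g U V R e₁ e₂) x

theorem appLE_top {X Y : Scheme.{u}} (f : X ⟶ Y) (U : Y.Opens) (x : Γ(Y, U)) :
    f.appLE U (f ⁻¹ᵁ U) le_rfl x = f.app U x := by
  rw [Scheme.Hom.app_eq_appLE]

theorem square_le {p : Z ⟶ T} {p' : Z' ⟶ T'} {g : T' ⟶ T} {m : Z' ⟶ Z} (w : m ≫ p = p' ≫ g)
    (U : T.Opens) : p' ⁻¹ᵁ (g ⁻¹ᵁ U) ≤ m ⁻¹ᵁ (p ⁻¹ᵁ U) := by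
  rw [← Scheme.Hom.comp_preimage, ← Scheme.Hom.comp_preimage, w]

/-- The map `g^* p_* O ⟶ p'_* O` of a square. -/
def sqMap {p : Z ⟶ T} {p' : Z' ⟶ T'} {g : T' ⟶ T} {m : Z' ⟶ Z} (w : m ≫ p = p' ≫ g) :
    (Scheme.Modules.pullback g).obj ((Scheme.Modules.pushforward p).obj (Coh.structureModule Z)) ⟶
      (Scheme.Modules.pushforward p').obj (Coh.structureModule Z') :=
  ((Scheme.Modules.pullbackPushforwardAdjunction g).homEquiv _ _).symm
    ((Scheme.Modules.pushforward p).map (unitPush m) ≫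
      (Scheme.Modules.pushforwardComp m p).hom.app _ ≫
      (Scheme.Modules.pushforwardCongr w).hom.app _ ≫
      (Scheme.Modules.pushforwardComp p' g).inv.app _)

theorem sqMap_pullSec {p : Z ⟶ T} {p' : Z' ⟶ T'} {g : T' ⟶ T} {m : Z' ⟶ Z}
    (w : m ≫ p = p' ≫ g) (U : T.Opens) (b : Γ(Z, p ⁻¹ᵁ U)) :
    (sqMap w).app (g ⁻¹ᵁ U)
        (pullSec g ((Scheme.Modules.pushforward p).obj (Coh.structureModule Z))
          (b : Γ((Scheme.Modules.pushforward p).obj (Coh.structureModule Z), U))) =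
      (m.appLE (p ⁻¹ᵁ U) (p' ⁻¹ᵁ (g ⁻¹ᵁ U)) (square_le w U) b :
        Γ((Scheme.Modules.pushforward p').obj (Coh.structureModule Z'), g ⁻¹ᵁ U)) := by
  have h := ((Scheme.Modules.pullbackPushforwardAdjunction g).homEquiv _ _).apply_symm_apply
    ((Scheme.Modules.pushforward p).map (unitPush m) ≫
      (Scheme.Modules.pushforwardComp m p).hom.app _ ≫
      (Scheme.Modules.pushforwardCongr w).hom.app _ ≫
      (Scheme.Modules.pushforwardComp p' g).inv.app _)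
  rw [Adjunction.homEquiv_unit] at h
  refine (congr(($h).app U
    (b : Γ((Scheme.Modules.pushforward p).obj (Coh.structureModule Z), U)))).trans ?_
  rfl

theorem sqMap_res_pullSec {p : Z ⟶ T} {p' : Z' ⟶ T'} {g : T' ⟶ T} {m : Z' ⟶ Z}
    (w : m ≫ p = p' ≫ g) {U : T.Opens} {V : T'.Opens} (e : V ≤ g ⁻¹ᵁ U)
    (e' : p' ⁻¹ᵁ V ≤ m ⁻¹ᵁ (p ⁻¹ᵁ U)) (b : Γ(Z, p ⁻¹ᵁ U)) :
    (sqMap w).app V
        (res _ e (pullSec g ((Scheme.Modules.pushforward p).obj (Coh.structureModule Z))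
          (b : Γ((Scheme.Modules.pushforward p).obj (Coh.structureModule Z), U)))) =
      (m.appLE (p ⁻¹ᵁ U) (p' ⁻¹ᵁ V) e' b :
        Γ((Scheme.Modules.pushforward p').obj (Coh.structureModule Z'), V)) := by
  refine (Groth.PicAux.app_res (sqMap w) e _).trans ?_
  rw [sqMap_pullSec]
  exact ConcreteCategory.congr_hom
    (Scheme.Hom.appLE_map m (square_le w U) (homOfLE (p'.preimage_mono e)).op) b

/-- Morphisms out of an inverse image are determined by pulled back sections. -/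
theorem hom_ext_pullSec {g : T' ⟶ T} {M : T.Modules} {N : T'.Modules}
    {φ ψ : (Scheme.Modules.pullback g).obj M ⟶ N}
    (h : ∀ (U : T.Opens) (b : Γ(M, U)),
      φ.app (g ⁻¹ᵁ U) (pullSec g M b) = ψ.app (g ⁻¹ᵁ U) (pullSec g M b)) : φ = ψ := by
  refine ((Scheme.Modules.pullbackPushforwardAdjunction g).homEquiv _ _).injective ?_
  rw [Adjunction.homEquiv_unit, Adjunction.homEquiv_unit]
  ext U b
  exact h U b

/-- The maps of composable squares compose. -/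
theorem sqMap_comp {p : Z ⟶ T} {p' : Z' ⟶ T'} {p'' : Z'' ⟶ T''} {g : T' ⟶ T} {g' : T'' ⟶ T'}
    {m : Z' ⟶ Z} {m' : Z'' ⟶ Z'} (w : m ≫ p = p' ≫ g) (w' : m' ≫ p' = p'' ≫ g') {g'' : T'' ⟶ T}
    {m'' : Z'' ⟶ Z} (hg : g' ≫ g = g'') (hm : m' ≫ m = m'') (w'' : m'' ≫ p = p'' ≫ g'') :
    Grass.quotBC hg (sqMap w) ≫ sqMap w' = sqMap w'' := by
  subst hg hm
  refine hom_ext_pullSec fun U b => ?_
  simp only [Grass.quotBC, GrassRep.pullbackCongr_rfl_inv, Category.id_comp, Category.assoc]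
  change (sqMap w').app _ (((Scheme.Modules.pullback g').map (sqMap w)).app _
    (((Scheme.Modules.pullbackComp g' g).inv.app _).app _ (pullSec (g' ≫ g) _ b))) = _
  rw [pullbackComp_inv_pullSec]
  have h1 := pullSec_map g' (sqMap w)
    (pullSec g ((Scheme.Modules.pushforward p).obj (Coh.structureModule Z)) b)
  refine (congrArg ((sqMap w').app _) h1).trans ?_
  rw [sqMap_pullSec w]
  refine (sqMap_pullSec w' (g ⁻¹ᵁ U) _).trans ?_
  rw [sqMap_pullSec w'']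
  exact appLE_appLE m' m _ _ _ _ _ b

/-- Sections over an affine piece of a closed subscheme of a base change along an affine morphism
are generated by functions on the base and pulled back sections. -/
theorem sections_induction {p : Z ⟶ T} [IsAffineHom p] {p' : Z' ⟶ T'} {g : T' ⟶ T} {m : Z' ⟶ Z}
    (w : m ≫ p = p' ≫ g) [IsClosedImmersion (pullback.lift m p' w)] {U : T.Opens}
    (hU : IsAffineOpen U) {V : T'.Opens} (hV : IsAffineOpen V) (e : V ≤ g ⁻¹ᵁ U)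
    (e' : p' ⁻¹ᵁ V ≤ m ⁻¹ᵁ (p ⁻¹ᵁ U)) {P : Γ(Z', p' ⁻¹ᵁ V) → Prop} (zero : P 0)
    (add : ∀ x y, P x → P y → P (x + y)) (smul : ∀ v y, P y → P (p'.app V v * y))
    (gen : ∀ b, P (m.appLE (p ⁻¹ᵁ U) (p' ⁻¹ᵁ V) e' b)) (y : Γ(Z', p' ⁻¹ᵁ V)) : P y := by
  let l := pullback.lift m p' w
  let q := pullback.snd p g
  let r := pullback.fst p g
  have hq : IsPullback r q p g := IsPullback.of_hasPullback p g
  have : IsAffineHom q := MorphismProperty.of_isPullback hq inferInstance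
  have heq : p' ⁻¹ᵁ V = l ⁻¹ᵁ (q ⁻¹ᵁ V) := by
    rw [← Scheme.Hom.comp_preimage, pullback.lift_snd]
  have hsurj : Function.Surjective (l.appLE (q ⁻¹ᵁ V) (p' ⁻¹ᵁ V) heq.le) := by
    rw [Scheme.Hom.appLE, show (homOfLE heq.le).op = eqToHom (congrArg Opposite.op heq.symm) from
      Subsingleton.elim _ _]
    exact (ConcreteCategory.bijective_of_isIso
      (Z'.presheaf.map (eqToHom (congrArg Opposite.op heq.symm)))).2.comp
      (l.app_surjective _ (hV.preimage q))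
  obtain ⟨z, rfl⟩ := hsurj y
  have er : q ⁻¹ᵁ V ≤ r ⁻¹ᵁ (p ⁻¹ᵁ U) := (q.preimage_mono e).trans (square_le hq.w U)
  have hpo := Groth.Ega2Proj.AffBC.isPushout_appLE p g r q hq hU hV e er
  letI algRS : Algebra Γ(T, U) Γ(T', V) := (g.appLE U V e).hom.toAlgebra
  letI algAB : Algebra Γ(Z, p ⁻¹ᵁ U) Γ(pullback p g, q ⁻¹ᵁ V) :=
    (r.appLE (p ⁻¹ᵁ U) (q ⁻¹ᵁ V) er).hom.toAlgebra
  letI algRA : Algebra Γ(T, U) Γ(Z, p ⁻¹ᵁ U) := (p.app U).hom.toAlgebra
  letI algSB : Algebra Γ(T', V) Γ(pullback p g, q ⁻¹ᵁ V) := (q.app V).hom.toAlgebra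
  letI algRB : Algebra Γ(T, U) Γ(pullback p g, q ⁻¹ᵁ V) := (g.appLE U V e ≫ q.app V).hom.toAlgebra
  haveI : IsScalarTower Γ(T, U) Γ(T', V) Γ(pullback p g, q ⁻¹ᵁ V) :=
    IsScalarTower.of_algebraMap_eq fun _ => rfl
  haveI : IsScalarTower Γ(T, U) Γ(Z, p ⁻¹ᵁ U) Γ(pullback p g, q ⁻¹ᵁ V) :=
    IsScalarTower.of_algebraMap_eq fun x => congr(($(hpo.w)).hom x)
  have hpu : Algebra.IsPushout Γ(T, U) Γ(T', V) Γ(Z, p ⁻¹ᵁ U) Γ(pullback p g, q ⁻¹ᵁ V) :=
    CommRingCat.isPushout_iff_isPushout.1 hpo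
  refine hpu.out.inductionOn z (fun z => P (l.appLE (q ⁻¹ᵁ V) (p' ⁻¹ᵁ V) heq.le z)) ?_ ?_ ?_ ?_
  · simpa using zero
  · intro b
    show P (l.appLE (q ⁻¹ᵁ V) (p' ⁻¹ᵁ V) heq.le (r.appLE (p ⁻¹ᵁ U) (q ⁻¹ᵁ V) er b))
    rw [appLE_appLE, appLE_congr_hom (pullback.lift_fst m p' w) _ _ _ e']
    exact gen b
  · intro v n hn
    show P (l.appLE (q ⁻¹ᵁ V) (p' ⁻¹ᵁ V) heq.le (q.app V v * n))
    rw [map_mul, ← appLE_top q, appLE_appLE, appLE_congr_hom (pullback.lift_snd m p' w) _ _ _ le_rfl,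
      appLE_top]
    exact smul v _ hn
  · intro a b ha hb
    rw [map_add]
    exact add _ _ ha hb

theorem isAffineHom_of_square {p : Z ⟶ T} [IsAffineHom p] {p' : Z' ⟶ T'} {g : T' ⟶ T}
    {m : Z' ⟶ Z} (w : m ≫ p = p' ≫ g) [IsClosedImmersion (pullback.lift m p' w)] :
    IsAffineHom p' := by
  have : IsAffineHom (pullback.snd p g) :=
    MorphismProperty.of_isPullback (IsPullback.of_hasPullback p g) inferInstance
  rw [← pullback.lift_snd m p' w]
  infer_instance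

/-- The map of a square with closed comparison is an epimorphism. -/
theorem epi_sqMap {p : Z ⟶ T} [IsAffineHom p] {p' : Z' ⟶ T'} {g : T' ⟶ T} {m : Z' ⟶ Z}
    (w : m ≫ p = p' ≫ g) [IsClosedImmersion (pullback.lift m p' w)] : Epi (sqMap w) := by
  have := isAffineHom_of_square w
  have := PicAux.isQCoh_structureModule Z
  have := PicAux.isQCoh_structureModule Z'
  have := QCohMod.isQCoh_pushforward (Coh.structureModule Z) p
  have := QCohMod.isQCoh_pushforward (Coh.structureModule Z') p'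
  refine OmegaSheaf.epi_of_affine_cover _ fun t => ?_
  obtain ⟨U, hU, htU⟩ := QCohMod.exists_affine_mem (g t)
  obtain ⟨V, hV, htV, hVU⟩ := exists_isAffineOpen_mem_and_subset (x := t) (U := g ⁻¹ᵁ U) htU
  refine ⟨V, hV, htV, fun y => ?_⟩
  let A := (QCohMod.appₗ (sqMap w) V)
  have e' : p' ⁻¹ᵁ V ≤ m ⁻¹ᵁ (p ⁻¹ᵁ U) := (p'.preimage_mono hVU).trans (square_le w U)
  exact sections_induction w hU hV hVU e'
    (P := fun z => (z : Γ((Scheme.Modules.pushforward p').obj (Coh.structureModule Z'), V)) ∈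
      LinearMap.range A)
    (zero_mem _) (fun _ _ => add_mem) (fun v z hz => (LinearMap.range A).smul_mem v hz)
    (fun b => ⟨_, sqMap_res_pullSec w hVU e' b⟩) y

end Groth.GrassSub
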