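import Groth.Agent.Quot.GrassFamily
import Groth.Agent.Quot.Relations
import Groth.Agent.Quot.Generated
import Groth.Agent.QCohMod.PullbackSections
import Groth.Agent.PicAux.SeesawReduced
import Groth.Agent.LocFree.Rank

/-!
# Locally free quotients of a coherent module over an affine base as points of a free Grassmannian
-/

set_option autoImplicit false
set_option linter.style.haveILetI false
set_option linter.unusedSectionVars false

universe u

open CategoryTheory Limits AlgebraicGeometry TopologicalSpace TensorProduct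
open Groth.PicAux (homOfSection homOfSection_one oneSec pullSec pullUnit hom_structure_ext)
open Groth.ThetaAlg (smulEnd)
open Groth.GrassRep (Pt ptMap pts)
open Groth.Quot

noncomputable section

namespace Groth.GrassSub

variable {R : Type u} [CommRing R]

/-- The spectrum of the base ring. -/
abbrev S₀ (R : Type u) [CommRing R] : Scheme.{u} := Spec (CommRingCat.of R)

/-- The identity family. -/
abbrev f₀ (R : Type u) [CommRing R] : S₀ R ⟶ Spec (CommRingCat.of R) := 𝟙 _

variable {E : (S₀ R).Modules} {N : ℕ} (e : Fin N → Γ(E, (⊤ : (S₀ R).Opens)))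

/-- The morphisms of the chosen sections. -/
abbrev vv (l : Fin N) : Coh.structureModule (S₀ R) ⟶ E := homOfSection (e l)

instance isIso_XTproj (T : Over (S₀ R)) : IsIso (PicF.XTproj (f₀ R) T) :=
  inferInstanceAs (IsIso (pullback.snd (𝟙 (S₀ R)) T.hom))

/-- Functions on the algebra as functions on the family. -/
def cA (A : CommAlgCat.{u} R) : A →+* Γ(PicF.XT (f₀ R) (Pt A), ⊤) :=
  (fn (f₀ R) (Pt A)).comp (gA A)

theorem cA_bijective (A : CommAlgCat.{u} R) : Function.Bijective (cA A) :=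
  have : IsIso (PicF.XTproj (f₀ R) (Pt A)).appTop :=
    inferInstanceAs (IsIso ((PicF.XTproj (f₀ R) (Pt A)).app ⊤))
  (ConcreteCategory.bijective_of_isIso (PicF.XTproj (f₀ R) (Pt A)).appTop).comp (gA_bijective A)

instance isAffine_XT (A : CommAlgCat.{u} R) : IsAffine (PicF.XT (f₀ R) (Pt A)) :=
  have : IsAffine (Pt A).left := inferInstanceAs (IsAffine (Spec _))
  IsAffine.of_isIso (PicF.XTproj (f₀ R) (Pt A))

/-- Functions on the base in an algebra. -/
def toA (A : CommAlgCat.{u} R) : Γ(S₀ R, ⊤) →+* A :=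
  (algebraMap R A).comp (Scheme.ΓSpecIso (CommRingCat.of R)).hom.hom

theorem map_toA {A B : CommAlgCat.{u} R} (φ : A ⟶ B) (x : Γ(S₀ R, ⊤)) :
    φ.hom (toA A x) = toA B x :=
  φ.hom.commutes _

theorem cA_toA (A : CommAlgCat.{u} R) (x : Γ(S₀ R, ⊤)) :
    cA A (toA A x) = (pullback.fst (f₀ R) (Pt A).hom).appTop x := by
  have h1 : (Pt A).hom.appTop x = gA A (toA A x) := by
    have h := ConcreteCategory.congr_hom
      (Scheme.ΓSpecIso_inv_naturality (CommRingCat.ofHom (algebraMap R A)))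
      ((Scheme.ΓSpecIso (CommRingCat.of R)).hom x)
    have h2 := ConcreteCategory.congr_hom (Scheme.ΓSpecIso (CommRingCat.of R)).hom_inv_id x
    exact (congrArg (Pt A).hom.appTop h2).symm.trans h.symm
  have h2 := congrArg (fun m : PicF.XT (f₀ R) (Pt A) ⟶ S₀ R => m.appTop)
    (pullback.condition (f := f₀ R) (g := (Pt A).hom))
  simp only [Scheme.Hom.comp_appTop] at h2
  have h3 := ConcreteCategory.congr_hom h2 x
  refine Eq.trans ?_ h3.symm
  show fn (f₀ R) (Pt A) (gA A (toA A x)) = _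
  rw [← h1]
  rfl

/-- The pulled back sections. -/
def sig (T : Over (S₀ R)) (l : Fin N) :
    Γ(FGA.ET (f₀ R) E T, (⊤ : (PicF.XT (f₀ R) T).Opens)) :=
  pullSec (pullback.fst (f₀ R) T.hom) E (e l)

/-- The pulled back unit section. -/
def uOne (T : Over (S₀ R)) :
    Γ(FGA.ET (f₀ R) (Coh.structureModule (S₀ R)) T, (⊤ : (PicF.XT (f₀ R) T).Opens)) :=
  pullSec (pullback.fst (f₀ R) T.hom) (Coh.structureModule (S₀ R)) (oneSec (S₀ R) ⊤)

/-- Combinations on the unit section. -/
theorem comb_app_uOne (T : Over (S₀ R)) {F : (PicF.XT (f₀ R) T).Modules}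
    (p : FGA.ET (f₀ R) E T ⟶ F) (r : Fin N → Γ(T.left, ⊤)) :
    (comb (f₀ R) (vv e) T r ≫ p).app ⊤ (uOne T) =
      ∑ l, fn (f₀ R) T (r l) • p.app ⊤ (sig e T l) := by
  let M := FGA.ET (f₀ R) (Coh.structureModule (S₀ R)) T
  let ev : (M ⟶ F) →+ Γ(F, (⊤ : (PicF.XT (f₀ R) T).Opens)) :=
    AddMonoidHom.mk' (fun φ => φ.app ⊤ (uOne T)) fun _ _ => rfl
  change ev (comb (f₀ R) (vv e) T r ≫ p) = _
  rw [comb, Preadditive.sum_comp, map_sum]
  refine Finset.sum_congr rfl fun l _ => ?_
  change p.app ⊤ (((Scheme.Modules.pullback (pullback.fst (f₀ R) T.hom)).map (vv e l)).app ⊤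
    ((smulEnd M (fn (f₀ R) T (r l))).app ⊤ (uOne T))) = _
  rw [ThetaAlg.smulEnd_app, PicAux.resX_self, Scheme.Modules.Hom.app_smul,
    Scheme.Modules.Hom.app_smul]
  congr 2
  refine (PicAux.pullSec_map (pullback.fst (f₀ R) T.hom) (vv e l) (oneSec (S₀ R) ⊤)).trans ?_
  rw [homOfSection_one]
  rfl

/-- Morphisms out of the pulled back unit are determined by the unit section. -/
theorem hom_unit_eq_zero {T : Over (S₀ R)} {F : (PicF.XT (f₀ R) T).Modules}
    (φ : FGA.ET (f₀ R) (Coh.structureModule (S₀ R)) T ⟶ F) (h : φ.app ⊤ (uOne T) = 0) :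
    φ = 0 := by
  let k := pullback.fst (f₀ R) T.hom
  have := PicAux.isIso_pullUnit k
  rw [← cancel_epi (inv (pullUnit k)), comp_zero]
  refine hom_structure_ext ?_
  have h1 : (inv (pullUnit k)).app ⊤ (oneSec _ ⊤) = uOne T := by
    have h2 := congr(($(IsIso.hom_inv_id (pullUnit k))).app ⊤ (uOne T))
    refine Eq.trans ?_ h2
    exact congrArg ((inv (pullUnit k)).app ⊤) (PicAux.pullbackObjUnit_oneSec k).symm
  change φ.app ⊤ ((inv (pullUnit k)).app ⊤ (oneSec _ ⊤)) = 0
  rw [h1, h]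

/-- Sections of the pulled back unit are multiples of the unit section. -/
theorem exists_smul_uOne {T : Over (S₀ R)}
    (s : Γ(FGA.ET (f₀ R) (Coh.structureModule (S₀ R)) T, (⊤ : (PicF.XT (f₀ R) T).Opens))) :
    ∃ c : Γ(PicF.XT (f₀ R) T, ⊤), c • uOne T = s := by
  let k := pullback.fst (f₀ R) T.hom
  have := PicAux.isIso_pullUnit k
  refine ⟨(pullUnit k).app ⊤ s,
    (ConcreteCategory.bijective_of_isIso ((pullUnit k).app ⊤)).1 ?_⟩
  refine ((pullUnit k).app_smul _ _).trans ?_
  let c : Γ(PicF.XT (f₀ R) T, ⊤) := (pullUnit k).app ⊤ s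
  refine Eq.trans ?_ (mul_one c)
  change c * _ = c * 1
  congr 1
  exact PicAux.pullbackObjUnit_oneSec k

/-- Submodules with quasi-coherent quotient are quasi-coherent. -/
theorem isQCoh_sub {Y : Scheme.{u}} {M : Y.Modules} [M.IsQuasicoherent] (K : Subobject M)
    [(cokernel K.arrow).IsQuasicoherent] : (K : Y.Modules).IsQuasicoherent := by
  let eK : (K : Y.Modules) ≅ kernel (cokernel.π K.arrow) :=
    IsLimit.conePointUniqueUpToIso
      (Abelian.monoIsKernelOfCokernel _ (cokernelIsCokernel K.arrow))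
      (limit.isLimit (parallelPair (cokernel.π K.arrow) 0))
  exact (QCohMod.isQCoh_iff_of_iso eK).2 inferInstance

/-- Finite sums of quasi-coherent modules are quasi-coherent. -/
theorem isQCoh_sigma_fin {Y : Scheme.{u}} {M : Y.Modules} [M.IsQuasicoherent] (q : ℕ) :
    (∐ fun _ : Fin q => M).IsQuasicoherent := by
  have : ∀ j, ((Discrete.functor fun _ : Fin q => M).obj j).IsQuasicoherent :=
    fun _ => inferInstanceAs M.IsQuasicoherent
  exact QCohMod.isQCoh_of_isColimit _ _ (colimit.isColimit (Discrete.functor fun _ : Fin q => M))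

section Affine

variable [E.IsQuasicoherent] (A : CommAlgCat.{u} R)

/-- The relations of the chosen sections over the base. -/
abbrev rel₀ : Submodule Γ(S₀ R, ⊤) (Fin N → Γ(S₀ R, ⊤)) :=
  LinearMap.ker (Fintype.linearCombination Γ(S₀ R, ⊤) e)

variable (hgen : Function.Surjective (Fintype.linearCombination Γ(S₀ R, ⊤) e))

include hgen in
theorem sig_facts :
    Function.Surjective (Fintype.linearCombination Γ(PicF.XT (f₀ R) (Pt A), ⊤) (sig e (Pt A))) ∧
      ∀ r', ∑ l, r' l • sig e (Pt A) l = 0 → r' ∈ Submodule.span Γ(PicF.XT (f₀ R) (Pt A), ⊤)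
        ((fun r l => (pullback.fst (f₀ R) (Pt A).hom).appTop (r l)) ''
          (rel₀ e : Set (Fin N → Γ(S₀ R, ⊤)))) := by
  let k := pullback.fst (f₀ R) (Pt A).hom
  let Y := PicF.XT (f₀ R) (Pt A)
  have he : (⊤ : Y.Opens) ≤ k ⁻¹ᵁ ⊤ := le_rfl
  letI := QCohMod.sectionsAlg k he
  have halg : ∀ x : Γ(S₀ R, ⊤), algebraMap Γ(S₀ R, ⊤) Γ(Y, ⊤) x = k.appTop x := fun x => by
    show k.appLE ⊤ ⊤ he x = (k.app ⊤) x
    rw [Scheme.Hom.app_eq_appLE]
    rfl
  letI : Module Γ(S₀ R, ⊤) Γ(FGA.ET (f₀ R) E (Pt A), (⊤ : Y.Opens)) :=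
    Module.compHom _ (k.appLE ⊤ ⊤ he).hom
  have : IsScalarTower Γ(S₀ R, ⊤) Γ(Y, ⊤) Γ(FGA.ET (f₀ R) E (Pt A), (⊤ : Y.Opens)) :=
    IsScalarTower.of_algebraMap_smul fun _ _ ↦ rfl
  have hbij := QCohMod.pullSecTensor_bijective k E he (isAffineOpen_top (S₀ R)) (isAffineOpen_top Y)
  have hone : ∀ m : Γ(E, (⊤ : (S₀ R).Opens)),
      QCohMod.pullSecTensor k E he (1 ⊗ₜ m) =
        (show Γ(FGA.ET (f₀ R) E (Pt A), (⊤ : Y.Opens)) from pullSec k E m) := fun m => by
    rw [QCohMod.pullSecTensor_tmul, one_smul]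
    exact QCohMod.res_self _ _
  constructor
  · intro y
    obtain ⟨z, rfl⟩ := hbij.2 y
    induction z using TensorProduct.induction_on with
    | zero => exact ⟨0, by rw [map_zero, map_zero]⟩
    | tmul b m =>
      obtain ⟨r, rfl⟩ := hgen m
      refine ⟨fun l => b * k.appTop (r l), ?_⟩
      rw [show b ⊗ₜ[Γ(S₀ R, ⊤)] Fintype.linearCombination Γ(S₀ R, ⊤) e r =
          b • ((1 : Γ(Y, ⊤)) ⊗ₜ[Γ(S₀ R, ⊤)] Fintype.linearCombination Γ(S₀ R, ⊤) e r) by
          rw [TensorProduct.smul_tmul', smul_eq_mul, mul_one],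
        LinearMap.map_smul, hone, Fintype.linearCombination_apply, Fintype.linearCombination_apply]
      refine Eq.trans ?_ (congrArg (fun z : Γ(FGA.ET (f₀ R) E (Pt A), (⊤ : Y.Opens)) => b • z)
        (map_sum (((Scheme.Modules.pullbackPushforwardAdjunction k).unit.app E).app ⊤).hom
          (fun l => r l • e l) Finset.univ).symm)
      refine Eq.trans ?_ (Finset.smul_sum (M := Γ(Y, ⊤))
        (N := Γ(FGA.ET (f₀ R) E (Pt A), (⊤ : Y.Opens))) (r := b)).symm
      refine Finset.sum_congr rfl fun l _ => ?_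
      refine Eq.trans ?_ (congrArg (fun z : Γ(FGA.ET (f₀ R) E (Pt A), (⊤ : Y.Opens)) => b • z)
        (PicAux.pullSec_smul k E (r l) (e l)).symm)
      exact mul_smul b (k.appTop (r l)) (sig e (Pt A) l)
    | add p q hp hq =>
      obtain ⟨a, ha⟩ := hp
      obtain ⟨a', ha'⟩ := hq
      exact ⟨a + a', by rw [map_add, map_add, ha, ha']⟩
  · intro r' hr'
    let ι₁ : Γ(E, (⊤ : (S₀ R).Opens)) →ₗ[Γ(S₀ R, ⊤)] Γ(FGA.ET (f₀ R) E (Pt A), (⊤ : Y.Opens)) :=
      ((QCohMod.pullSecTensor k E he).restrictScalars Γ(S₀ R, ⊤)).comp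
        (TensorProduct.mk Γ(S₀ R, ⊤) Γ(Y, ⊤) Γ(E, (⊤ : (S₀ R).Opens)) 1)
    have hι : IsBaseChange Γ(Y, ⊤) ι₁ :=
      IsBaseChange.of_equiv (LinearEquiv.ofBijective _ hbij) fun m => rfl
    have := mem_span_of_isBaseChange hι _ hgen r' (by
      refine Eq.trans (Finset.sum_congr rfl fun l _ => ?_) hr'
      congr 1
      rw [Fintype.linearCombination_apply_single, one_smul]
      exact hone (e l))
    refine Submodule.span_mono ?_ this
    rintro _ ⟨r, hr, rfl⟩
    exact ⟨r, hr, funext fun l => (halg (r l)).symm⟩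

/-- Coefficient vectors as vectors of functions on the family. -/
def push : (Fin N → A) →ₛₗ[cA A] (Fin N → Γ(PicF.XT (f₀ R) (Pt A), ⊤)) where
  toFun r l := cA A (r l)
  map_add' r r' := funext fun l => map_add (cA A) (r l) (r' l)
  map_smul' a r := funext fun l => map_mul (cA A) a (r l)

variable (K : Subobject (FGA.ET (f₀ R) E (Pt A)))

/-- The projection on vectors. -/
def psi : (Fin N → Γ(PicF.XT (f₀ R) (Pt A), ⊤)) →ₗ[Γ(PicF.XT (f₀ R) (Pt A), ⊤)]
    Γ(cokernel K.arrow, (⊤ : (PicF.XT (f₀ R) (Pt A)).Opens)) :=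
  Fintype.linearCombination _ fun l => (cokernel.π K.arrow).app ⊤ (sig e (Pt A) l)

/-- The relations of a family, as vectors. -/
def relV : Submodule A (Fin N → A) := (LinearMap.ker (psi e A K)).comap (push A)

theorem psi_apply (r : Fin N → Γ(PicF.XT (f₀ R) (Pt A), ⊤)) :
    psi e A K r = (cokernel.π K.arrow).app ⊤
      (Fintype.linearCombination Γ(PicF.XT (f₀ R) (Pt A), ⊤) (sig e (Pt A)) r) := by
  rw [psi, Fintype.linearCombination_apply, Fintype.linearCombination_apply]
  refine Eq.symm ((map_sum ((cokernel.π K.arrow).app ⊤).hom _ _).trans ?_)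
  exact Finset.sum_congr rfl fun l _ => Scheme.Modules.Hom.app_smul _ _ _

include hgen in
theorem psi_surjective [(cokernel K.arrow).IsQuasicoherent] :
    Function.Surjective (psi e A K) := fun y => by
  obtain ⟨x, rfl⟩ := QCohMod.app_surjective_of_epi (cokernel.π K.arrow) (isAffineOpen_top _) y
  obtain ⟨r, rfl⟩ := (sig_facts e A hgen).1 x
  exact ⟨r, psi_apply e A K r⟩

theorem mem_relV_iff (r : Fin N → A) :
    r ∈ relV e A K ↔
      comb (f₀ R) (vv e) (Pt A) (fun l => gA A (r l)) ≫ cokernel.π K.arrow = 0 := by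
  have h := comb_app_uOne e (Pt A) (cokernel.π K.arrow) fun l => gA A (r l)
  refine Iff.trans ?_ ⟨fun h0 => hom_unit_eq_zero _ (h.trans h0), fun h0 => h.symm.trans ?_⟩
  · rw [relV, Submodule.mem_comap, LinearMap.mem_ker, psi, Fintype.linearCombination_apply]
    exact Iff.rfl
  · rw [h0]
    rfl

set_option maxHeartbeats 1000000 in
theorem relV_kSpan_ge {q : ℕ} (w : Fin q → Fin N → A) :
    Submodule.span A (Set.range w) ≤ relV e A (kSpan (f₀ R) (vv e) A w) :=
  Submodule.span_le.2 (Set.range_subset_iff.2 fun j =>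
    (mem_relV_iff e A (kSpan (f₀ R) (vv e) A w) (w j)).2
      ((spanSub_le_iff (f₀ R) (vv e) (fun j l => gA A (w j l)) _).1 le_rfl j))

include hgen in
theorem kSpan_eq [(cokernel K.arrow).IsQuasicoherent] {q : ℕ} (w : Fin q → Fin N → A)
    (hw : Submodule.span A (Set.range w) = relV e A K) :
    kSpan (f₀ R) (vv e) A w = K := by
  refine le_antisymm ((spanSub_le_iff (f₀ R) (vv e) _ K).2 fun j =>
    (mem_relV_iff e A K (w j)).1 (hw.le (Submodule.subset_span ⟨j, rfl⟩))) ?_
  rw [Quot.le_iff_arrow_comp_eq_zero]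
  have := isQCoh_sub K
  refine OmegaSheaf.hom_ext_of_top fun t => ?_
  obtain ⟨a, ha⟩ := (sig_facts e A hgen).1 (K.arrow.app ⊤ t)
  choose a₀ ha₀ using fun l => (cA_bijective A).2 (a l)
  have hpush : push A a₀ = a := funext ha₀
  have h1 : a₀ ∈ relV e A K := by
    rw [relV, Submodule.mem_comap, hpush, LinearMap.mem_ker, psi_apply, ha]
    exact congr(($(cokernel.condition K.arrow)).app ⊤ t)
  have h2 : a₀ ∈ relV e A (kSpan (f₀ R) (vv e) A w) := relV_kSpan_ge e A w (hw.ge h1)
  rw [relV, Submodule.mem_comap, hpush, LinearMap.mem_ker, psi_apply, ha] at h2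
  exact h2.trans rfl

set_option maxHeartbeats 1000000 in
include hgen in
theorem relV_kSpan_le {q : ℕ} (w : Fin q → Fin N → A) :
    LinearMap.ker (psi e A (kSpan (f₀ R) (vv e) A w)) ≤ Submodule.span _
      (push A '' (Set.range w ∪ (fun r l => toA A (r l)) ''
        (rel₀ e : Set (Fin N → Γ(S₀ R, ⊤))))) := by
  intro a ha
  rw [LinearMap.mem_ker, psi_apply] at ha
  obtain ⟨t, ht⟩ := exists_arrow_app_eq _ _ ha
  let O₁ := FGA.ET (f₀ R) (Coh.structureModule (S₀ R)) (Pt A)
  let rw' : Fin q → Fin N → Γ((Pt A).left, ⊤) := fun j l => gA A (w j l)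
  let d : (∐ fun _ : Fin q => O₁) ⟶ FGA.ET (f₀ R) E (Pt A) :=
    Sigma.desc fun j => comb (f₀ R) (vv e) (Pt A) (rw' j)
  have : O₁.IsQuasicoherent := QCohMod.isQCoh_pullback_obj _ _
  have hX : (∐ fun _ : Fin q => O₁).IsQuasicoherent := isQCoh_sigma_fin q
  have hK : ((imageSubobject d : Subobject _) : (PicF.XT (f₀ R) (Pt A)).Modules).IsQuasicoherent := by
    have : (cokernel (imageSubobject d).arrow).IsQuasicoherent := by
      obtain ⟨θ, -⟩ := exists_cokernel_image_iso d
      exact (QCohMod.isQCoh_iff_of_iso θ).1 inferInstance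
    exact isQCoh_sub _
  obtain ⟨s, rfl⟩ := QCohMod.app_surjective_of_epi (factorThruImageSubobject d) (isAffineOpen_top _) t
  have hds : d.app ⊤ s = Fintype.linearCombination _ (sig e (Pt A)) a :=
    (congr(($(imageSubobject_arrow_comp d)).app ⊤ s)).symm.trans ht
  let proj : ∀ j : Fin q, (∐ fun _ : Fin q => O₁) ⟶ O₁ := fun j =>
    Sigma.desc fun i => if i = j then 𝟙 _ else 0
  have htot : ∑ j, proj j ≫ comb (f₀ R) (vv e) (Pt A) (rw' j) = d := Sigma.hom_ext _ _ fun i => by
    classical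
    rw [Preadditive.comp_sum, Finset.sum_eq_single i]
    · simp [proj, d]
    · intro j _ hj
      simp [proj, Ne.symm hj]
    · simp
  choose c hc using fun j => exists_smul_uOne ((proj j).app ⊤ s)
  have hd : d.app ⊤ s = Fintype.linearCombination _ (sig e (Pt A)) (∑ j, c j • push A (w j)) := by
    let ev : ((∐ fun _ : Fin q => O₁) ⟶ FGA.ET (f₀ R) E (Pt A)) →+ _ :=
      AddMonoidHom.mk' (fun φ => φ.app ⊤ s) fun _ _ => rfl
    change ev d = _
    rw [← htot, map_sum, map_sum]
    refine Finset.sum_congr rfl fun j _ => ?_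
    rw [LinearMap.map_smul, Fintype.linearCombination_apply]
    change (comb (f₀ R) (vv e) (Pt A) (rw' j)).app ⊤ ((proj j).app ⊤ s) = _
    rw [← hc, Scheme.Modules.Hom.app_smul]
    congr 1
    have := comb_app_uOne e (Pt A) (𝟙 _) (rw' j)
    rw [Category.comp_id] at this
    exact this
  have h0 : ∑ l, (a - ∑ j, c j • push A (w j)) l • sig e (Pt A) l = 0 := by
    refine (Fintype.linearCombination_apply _ _ _).symm.trans ?_
    rw [map_sub, ← hds, hd, sub_self]
  rw [← sub_add_cancel a (∑ j, c j • push A (w j))]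
  refine Submodule.add_mem _ (Submodule.span_mono ?_ ((sig_facts e A hgen).2 _ h0))
    (Submodule.sum_mem _ fun j _ => Submodule.smul_mem _ _
      (Submodule.subset_span ⟨w j, Or.inl ⟨j, rfl⟩, rfl⟩))
  rintro _ ⟨r, hr, rfl⟩
  exact ⟨_, Or.inr ⟨r, hr, rfl⟩, funext fun l => cA_toA A (r l)⟩

variable {d : ℕ}

/-- A point satisfies the relations of the module. -/
def Cond (N₀ : Module.Grassmannian A (TensorProduct R A (Fin N → R)) d) : Prop :=
  ∀ r ∈ rel₀ e, (fun l => toA A (r l)) ∈ Nvec N₀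

/-- The functions on the family as an algebra. -/
abbrev algC : Algebra R Γ(PicF.XT (f₀ R) (Pt A), ⊤) :=
  ((cA A).comp (algebraMap R A)).toAlgebra

set_option maxHeartbeats 1000000 in
include hgen in
/-- A family is the family of a point. -/
theorem exists_point (hK : FlatMod.IsFinLocFreeOfRank d (cokernel K.arrow)) :
    ∃ N₀ : Module.Grassmannian A (TensorProduct R A (Fin N → R)) d,
      Nvec N₀ = relV e A K ∧ Cond e A N₀ ∧ kOf (f₀ R) (vv e) A N₀ = K := by
  have hlf : FlatMod.IsFinLocFree (cokernel K.arrow) := LocFree.isFinLocFree_of_rank hK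
  have := KTheory.LocFree.isQCoh hlf
  let C := Γ(PicF.XT (f₀ R) (Pt A), ⊤)
  let eQ := (psi e A K).quotKerEquivOfSurjective (psi_surjective e A hgen K)
  obtain ⟨hfin, hproj⟩ := LocFree.finite_projective_sections hlf
    (isAffineOpen_top (PicF.XT (f₀ R) (Pt A)))
  have : Module.Finite C ((Fin N → C) ⧸ LinearMap.ker (psi e A K)) := Module.Finite.equiv eQ.symm
  have : Module.Projective C ((Fin N → C) ⧸ LinearMap.ker (psi e A K)) :=
    Module.Projective.of_equiv eQ.symm
  letI := algC A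
  obtain ⟨NC, hNC⟩ := exists_Nvec_eq (R := R) (k := d) (LinearMap.ker (psi e A K)) fun p => by
    rw [Module.rankAtStalk_eq_of_equiv eQ]
    exact LocFree.rankAtStalk_sections_ofRank hK (isAffineOpen_top _) p
  let eC : A ≃+* C := RingEquiv.ofBijective (cA A) (cA_bijective A)
  let φ : C →ₐ[R] A := AlgHom.mk eC.symm.toRingHom fun r => eC.symm_apply_apply _
  have hN : Nvec (Module.Grassmannian.map φ NC) = relV e A K := by
    rw [Nvec_map, hNC]
    refine le_antisymm (Submodule.span_le.2 ?_) fun x hx => Submodule.subset_span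
      ⟨push A x, hx, funext fun l => eC.symm_apply_apply (x l)⟩
    rintro _ ⟨r, hr, rfl⟩
    rw [SetLike.mem_coe, relV, Submodule.mem_comap]
    rwa [show push A (fun l => φ (r l)) = r from funext fun l => eC.apply_symm_apply (r l)]
  refine ⟨Module.Grassmannian.map φ NC, hN, fun r hr => ?_, ?_⟩
  · rw [hN, relV, Submodule.mem_comap, LinearMap.mem_ker, psi_apply]
    have h0 : Fintype.linearCombination C (sig e (Pt A)) (push A fun l => toA A (r l)) =
        (show Γ(FGA.ET (f₀ R) E (Pt A), (⊤ : (PicF.XT (f₀ R) (Pt A)).Opens)) from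
          pullSec (pullback.fst (f₀ R) (Pt A).hom) E
            (Fintype.linearCombination Γ(S₀ R, ⊤) e r)) := by
      rw [Fintype.linearCombination_apply, Fintype.linearCombination_apply]
      refine Eq.trans ?_ (map_sum (((Scheme.Modules.pullbackPushforwardAdjunction
        (pullback.fst (f₀ R) (Pt A).hom)).unit.app E).app ⊤).hom (fun l => r l • e l)
          Finset.univ).symm
      refine Finset.sum_congr rfl fun l _ => ?_
      refine Eq.trans ?_ (PicAux.pullSec_smul _ E (r l) (e l)).symm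
      exact congrArg (fun z => z • sig e (Pt A) l) (cA_toA A (r l))
    rw [h0, LinearMap.mem_ker.1 hr]
    exact (congrArg _ (map_zero (((Scheme.Modules.pullbackPushforwardAdjunction
      (pullback.fst (f₀ R) (Pt A).hom)).unit.app E).app ⊤).hom)).trans (map_zero _)
  · obtain ⟨q, w, hw⟩ := Submodule.fg_iff_exists_fin_generating_family.1
      (fg_Nvec (Module.Grassmannian.map φ NC))
    rw [kOf_eq (f₀ R) (vv e) _ w hw]
    exact kSpan_eq e A hgen K w (hw.trans hN)

set_option maxHeartbeats 1000000 in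
include hgen in
/-- A point satisfying the relations gives a family. -/
theorem kOf_facts (hE : Coh.IsCoh E)
    (N₀ : Module.Grassmannian A (TensorProduct R A (Fin N → R)) d) (h0 : Cond e A N₀) :
    FlatMod.IsFinLocFreeOfRank d (cokernel (kOf (f₀ R) (vv e) A N₀).arrow) ∧
      relV e A (kOf (f₀ R) (vv e) A N₀) = Nvec N₀ := by
  obtain ⟨q, w, hw⟩ := Submodule.fg_iff_exists_fin_generating_family.1 (fg_Nvec N₀)
  rw [kOf_eq (f₀ R) (vv e) _ w hw]
  let K := kSpan (f₀ R) (vv e) A w
  let C := Γ(PicF.XT (f₀ R) (Pt A), ⊤)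
  letI := algC A
  let ψ : A →ₐ[R] C := AlgHom.mk (cA A) fun r => rfl
  have hker : LinearMap.ker (psi e A K) = Nvec (Module.Grassmannian.map ψ N₀) := by
    rw [Nvec_map]
    refine le_antisymm ((relV_kSpan_le e A hgen w).trans (Submodule.span_mono ?_))
      (Submodule.span_le.2 ?_)
    · rintro _ ⟨x, (⟨j, rfl⟩ | ⟨r, hr, rfl⟩), rfl⟩
      · exact ⟨w j, hw.le (Submodule.subset_span ⟨j, rfl⟩), rfl⟩
      · exact ⟨_, h0 r hr, rfl⟩
    · rintro _ ⟨x, hx, rfl⟩
      exact relV_kSpan_ge e A w (hw.ge hx)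
  have hq : (cokernel K.arrow).IsQuasicoherent :=
    (isCoh_cokernel_spanSub (f₀ R) (vv e) _ hE (KTheory.LocFree.isCoh (LocFree.isFinLocFree_unit _))).1
  let N' := Module.Grassmannian.map ψ N₀
  let eQ : ((TensorProduct R C (Fin N → R)) ⧸ N'.toSubmodule) ≃ₗ[C]
      Γ(cokernel K.arrow, (⊤ : (PicF.XT (f₀ R) (Pt A)).Opens)) :=
    (quotVecEquiv N').trans ((Submodule.quotEquivOfEq _ _ hker.symm).trans
      ((psi e A K).quotKerEquivOfSurjective (psi_surjective e A hgen K)))
  have := N'.finite_quotient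
  have := N'.projective_quotient
  have hfl : FlatMod.IsFinLocFree (cokernel K.arrow) :=
    LocFree.isFinLocFree_of_affine_cover fun x => ⟨⊤, isAffineOpen_top _, trivial,
      Module.Finite.equiv eQ, Module.Projective.of_equiv eQ⟩
  refine ⟨?_, ?_⟩
  · refine (LocFree.isFinLocFreeOfRank_iff_finrank (M := cokernel K.arrow)).2 ⟨hfl, fun x => ?_⟩
    rw [← LocFree.rankAtStalk_sections hfl (isAffineOpen_top _) (show x ∈ (⊤ : Opens _) from trivial),
      ← Module.rankAtStalk_eq_of_equiv eQ, N'.rankAtStalk_eq]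
  · let eC : A ≃+* C := RingEquiv.ofBijective (cA A) (cA_bijective A)
    let φ : C →ₐ[R] A := AlgHom.mk eC.symm.toRingHom fun r => eC.symm_apply_apply _
    have hid : Module.Grassmannian.map φ N' = N₀ := by
      rw [← GrassRep.map_comp', show φ.comp ψ = AlgHom.id R A from
        AlgHom.ext fun a => eC.symm_apply_apply a, GrassRep.map_id']
    conv_rhs => rw [← hid, Nvec_map, ← hker]
    apply le_antisymm
    · exact fun x hx => Submodule.subset_span
        ⟨push A x, hx, funext fun l => eC.symm_apply_apply (x l)⟩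
    refine Submodule.span_le.2 ?_
    rintro _ ⟨r, hr, rfl⟩
    rw [SetLike.mem_coe, relV, Submodule.mem_comap]
    rwa [show push A (fun l => φ (r l)) = r from funext fun l => eC.apply_symm_apply (r l)]

end Affine

end Groth.GrassSub
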