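import Groth.Agent.Quot.SubGlue
import Mathlib.AlgebraicGeometry.RelativeGluing
import Mathlib.AlgebraicGeometry.Cover.Directed

/-!
# Gluing representing schemes of a local condition on submodules over affine opens of the base
-/

set_option autoImplicit false
set_option linter.style.haveILetI false
set_option linter.unusedVariables false

universe u

open CategoryTheory Limits AlgebraicGeometry TopologicalSpace
open Groth.Quot

noncomputable section

namespace Groth.GrassSub

variable {X S : Scheme.{u}} {f : X ⟶ S} {E : X.Modules}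

/-- A condition on families of submodules which is stable and local. -/
structure LocalCond (f : X ⟶ S) (E : X.Modules) where
  /-- The condition. -/
  P : ∀ T : Over S, Subobject (FGA.ET f E T) → Prop
  pull : ∀ {T T' : Over S} (g : T' ⟶ T) (K : Subobject (FGA.ET f E T)),
    P T K → P T' (FGA.quotPull f E g K)
  coh : ∀ {T : Over S} {K : Subobject (FGA.ET f E T)}, P T K → Coh.IsCoh (cokernel K.arrow)
  localP : ∀ {T : Over S} {ι : Type u} {V : ι → Over S} (g : ∀ i, V i ⟶ T)
    [∀ i, IsOpenImmersion (g i).left], (∀ t : T.left, ∃ i, t ∈ Set.range (g i).left) →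
    ∀ K : Subobject (FGA.ET f E T), (∀ i, P (V i) (FGA.quotPull f E (g i) K)) → P T K

/-- A representing scheme over an affine open. -/
structure LocalChart (C : LocalCond f E) (U : S.affineOpens) where
  /-- The scheme. -/
  M : Over S
  /-- The map to the open. -/
  k : M.left ⟶ (U.1 : Scheme.{u})
  hk : k ≫ U.1.ι = M.hom
  /-- The family. -/
  K : Subobject (FGA.ET f E M)
  cond : C.P M K
  rep : ∀ T : Over S, Set.range T.hom ⊆ (U.1 : Set S) → ∀ K' : Subobject (FGA.ET f E T),
    C.P T K' → ∃! g : T ⟶ M, FGA.quotPull f E g K = K'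

namespace LocalChart

variable {C : LocalCond f E} (c : ∀ U : S.affineOpens, LocalChart C U)

theorem range_le {U V : S.affineOpens} (h : U ≤ V) :
    Set.range (c U).M.hom ⊆ (V.1 : Set S) := by
  rintro _ ⟨x, rfl⟩
  rw [← (c U).hk]
  exact h ((c U).k x).2

theorem ext {U : S.affineOpens} {T : Over S}
    (hT : Set.range T.hom ⊆ (U.1 : Set S)) {g g' : T ⟶ (c U).M}
    (h : FGA.quotPull f E g (c U).K = FGA.quotPull f E g' (c U).K) : g = g' :=
  ((c U).rep T hT _ (C.pull g _ (c U).cond)).unique rfl h.symm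

theorem exists_trans {U V : S.affineOpens} (h : U ≤ V) :
    ∃! t : (c U).M ⟶ (c V).M, FGA.quotPull f E t (c V).K = (c U).K :=
  (c V).rep (c U).M (range_le c h) (c U).K (c U).cond

/-- The transition maps. -/
def tr {U V : S.affineOpens} (h : U ≤ V) : (c U).M ⟶ (c V).M := (exists_trans c h).exists.choose

theorem tr_spec {U V : S.affineOpens} (h : U ≤ V) :
    FGA.quotPull f E (tr c h) (c V).K = (c U).K :=
  (exists_trans c h).exists.choose_spec

theorem tr_id (U : S.affineOpens) : tr c (le_refl U) = 𝟙 _ :=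
  ext c (range_le c le_rfl) (by rw [tr_spec, quotPull_id])

theorem tr_comp {U V W : S.affineOpens} (h : U ≤ V) (h' : V ≤ W) :
    tr c h ≫ tr c h' = tr c (h.trans h') :=
  ext c (range_le c (h.trans h')) (by rw [tr_spec, ← quotPull_comp, tr_spec, tr_spec])

theorem tr_k {U V : S.affineOpens} (h : U ≤ V) :
    (tr c h).left ≫ (c V).k = (c U).k ≫ S.homOfLE h := by
  rw [← cancel_mono V.1.ι, Category.assoc, Category.assoc, Scheme.homOfLE_ι, (c V).hk, (c U).hk]
  exact Over.w (tr c h)

theorem isPullback_tr {U V : S.affineOpens} (h : U ≤ V) :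
    IsPullback (tr c h).left (c U).k (c V).k (S.homOfLE h) := by
  let P := pullback (c V).k (S.homOfLE h)
  let TP : Over S := Over.mk (pullback.snd (c V).k (S.homOfLE h) ≫ U.1.ι)
  let f₁ : TP ⟶ (c V).M := Over.homMk (pullback.fst (c V).k (S.homOfLE h)) (by
    show pullback.fst _ _ ≫ (c V).M.hom = pullback.snd _ _ ≫ U.1.ι
    rw [← (c V).hk, pullback.condition_assoc, Scheme.homOfLE_ι])
  have hU : Set.range TP.hom ⊆ (U.1 : Set S) := by
    rintro _ ⟨x, rfl⟩
    exact (pullback.snd (c V).k (S.homOfLE h) x).2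
  obtain ⟨v, hv, -⟩ := (c U).rep TP hU _ (C.pull f₁ _ (c V).cond)
  replace hv : FGA.quotPull f E v (c U).K = FGA.quotPull f E f₁ (c V).K := hv
  let cmp : (c U).M ⟶ TP := Over.homMk (pullback.lift (tr c h).left (c U).k (tr_k c h)) (by
    show pullback.lift _ _ _ ≫ pullback.snd _ _ ≫ U.1.ι = (c U).M.hom
    rw [pullback.lift_snd_assoc, (c U).hk])
  have hf : cmp ≫ f₁ = tr c h := Over.OverMorphism.ext (pullback.lift_fst _ _ _)
  have h1 : cmp ≫ v = 𝟙 _ := ext c (range_le c le_rfl) (by
    rw [← quotPull_comp, hv, quotPull_comp, hf, tr_spec, quotPull_id])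
  have h2 : v ≫ tr c h = f₁ := ext c (fun _ hx => h (hU hx)) (by
    rw [← quotPull_comp, tr_spec, hv])
  have h3 : v ≫ cmp = 𝟙 _ := by
    refine Over.OverMorphism.ext (pullback.hom_ext ?_ ?_)
    · show (v.left ≫ pullback.lift _ _ _) ≫ pullback.fst _ _ = _
      rw [Category.assoc, pullback.lift_fst, ← Over.comp_left, h2]
      exact (Category.id_comp _).symm
    · show (v.left ≫ pullback.lift _ _ _) ≫ pullback.snd _ _ = _
      rw [Category.assoc, pullback.lift_snd, ← cancel_mono U.1.ι, Category.assoc, (c U).hk]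
      exact (Over.w v).trans (by simp [TP])
  let e : (c U).M.left ≅ P :=
    ⟨cmp.left, v.left, congrArg (fun z => z.left) h1, congrArg (fun z => z.left) h3⟩
  exact IsPullback.of_iso_pullback ⟨tr_k c h⟩ e (pullback.lift_fst _ _ _) (pullback.lift_snd _ _ _)

/-- The gluing datum. -/
def gluing : S.directedAffineCover.RelativeGluingData where
  functor :=
    { obj := fun U ↦ (c U).M.left
      map := fun {U V} h ↦ (tr c (leOfHom h)).left
      map_id := fun U ↦ congrArg (fun z ↦ z.left) (tr_id c U)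
      map_comp := fun {U V W} h h' ↦
        congrArg (fun z ↦ z.left) (tr_comp c (leOfHom h) (leOfHom h')).symm }
  natTrans :=
    { app := fun U ↦ (c U).k
      naturality := fun {U V} h ↦ tr_k c (leOfHom h) }
  equifibered := fun {U V} h ↦ isPullback_tr c (leOfHom h)

/-- The glued object. -/
abbrev glObj : Over S := Over.mk (gluing c).toBase

/-- The chart inclusions. -/
abbrev incl (U : S.affineOpens) : (c U).M ⟶ glObj c :=
  Over.homMk (colimit.ι (gluing c).functor U) (((gluing c).ι_toBase U).trans (c U).hk)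

instance isOpenImmersion_incl (U : S.affineOpens) : IsOpenImmersion (incl c U).left :=
  (gluing c).cover.map_prop U

theorem tr_incl {U V : S.affineOpens} (h : U ≤ V) : tr c h ≫ incl c V = incl c U :=
  Over.OverMorphism.ext (colimit.w (gluing c).functor (homOfLE h))

theorem exists_mem_incl (x : (glObj c).left) : ∃ U, x ∈ Set.range (incl c U).left :=
  ⟨_, (gluing c).cover.covers x⟩

/-- Morphisms landing over `U` factor through the chart. -/
theorem exists_factor {T : Over S} (U : S.affineOpens) (hT : Set.range T.hom ⊆ (U.1 : Set S))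
    (g : T ⟶ glObj c) : ∃ w : T ⟶ (c U).M, w ≫ incl c U = g := by
  have hle : Set.range g.left ⊆ Set.range (incl c U).left := by
    change Set.range g.left ⊆ Set.range (colimit.ι (gluing c).functor U)
    rw [← (gluing c).preimage_toBase_eq_range_ι U]
    rintro _ ⟨x, rfl⟩
    show (gluing c).toBase _ ∈ Set.range U.1.ι
    rw [← Scheme.Hom.comp_apply, Scheme.Opens.range_ι,
      show g.left ≫ (gluing c).toBase = T.hom from Over.w g]
    exact hT ⟨x, rfl⟩
  have hfac := IsOpenImmersion.lift_fac (incl c U).left g.left hle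
  refine ⟨Over.homMk (IsOpenImmersion.lift (incl c U).left g.left hle) ?_,
    Over.OverMorphism.ext hfac⟩
  rw [← Over.w (incl c U), ← Category.assoc, hfac, Over.w g]

set_option maxHeartbeats 1000000 in
/-- The families on the charts glue. -/
theorem exists_family : ∃ K : Subobject (FGA.ET f E (glObj c)), C.P (glObj c) K ∧
    ∀ U, FGA.quotPull f E (incl c U) K = (c U).K := by
  obtain ⟨K, -, hK⟩ := exists_glue_coh f (incl c) (exists_mem_incl c)
    (fun U => ⟨(c U).K, C.coh (c U).cond⟩) fun U V W p q hpq => by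
    let J := {A : S.affineOpens // A ≤ U ∧ A ≤ V}
    let w : ∀ A : J, Over S := fun A => Over.mk ((W.hom ⁻¹ᵁ A.1.1).ι ≫ W.hom)
    let v : ∀ A : J, w A ⟶ W := fun A => Over.homMk (W.hom ⁻¹ᵁ A.1.1).ι rfl
    have : ∀ A, IsOpenImmersion (v A).left := fun A =>
      inferInstanceAs (IsOpenImmersion (W.hom ⁻¹ᵁ A.1.1).ι)
    refine eq_of_cover f v (fun x => ?_) _ _ fun A => ?_
    · have hxU : W.hom x ∈ U.1 := by
        rw [← Over.w p, Scheme.Hom.comp_apply]
        exact range_le c le_rfl ⟨_, rfl⟩
      have hxV : W.hom x ∈ V.1 := by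
        rw [← Over.w q, Scheme.Hom.comp_apply]
        exact range_le c le_rfl ⟨_, rfl⟩
      obtain ⟨A, hA, hxA, hAUV⟩ :=
        exists_isAffineOpen_mem_and_subset (x := W.hom x) (U := U.1 ⊓ V.1) ⟨hxU, hxV⟩
      exact ⟨⟨⟨A, hA⟩, fun y hy => (hAUV hy).1, fun y hy => (hAUV hy).2⟩, ⟨x, hxA⟩, rfl⟩
    · have hr : Set.range (w A).hom ⊆ (A.1.1 : Set S) := by
        rintro _ ⟨y, rfl⟩
        exact y.2
      obtain ⟨z, hz⟩ := exists_factor c A.1 hr (v A ≫ p ≫ incl c U)
      have hp : z ≫ tr c A.2.1 = v A ≫ p := Over.OverMorphism.ext ((cancel_mono (incl c U).left).1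
        (congrArg (fun z => z.left) (show (z ≫ tr c A.2.1) ≫ incl c U = (v A ≫ p) ≫ incl c U by
          rw [Category.assoc, tr_incl, hz, Category.assoc])))
      have hq : z ≫ tr c A.2.2 = v A ≫ q := Over.OverMorphism.ext ((cancel_mono (incl c V).left).1
        (congrArg (fun z => z.left) (show (z ≫ tr c A.2.2) ≫ incl c V = (v A ≫ q) ≫ incl c V by
          rw [Category.assoc, tr_incl, hz, Category.assoc, hpq])))
      rw [quotPull_comp, quotPull_comp, ← hp, ← hq, ← quotPull_comp, ← quotPull_comp, tr_spec,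
        tr_spec]
  exact ⟨K, C.localP (incl c) (exists_mem_incl c) K fun U => by rw [hK]; exact (c U).cond, hK⟩

set_option maxHeartbeats 1000000 in
include c in
/-- A local condition representable over affines is representable. -/
theorem exists_glued (P : MorphismProperty Scheme.{u}) [IsZariskiLocalAtTarget P]
    (hP : ∀ U, P (c U).k) :
    ∃ (Q : Over S) (K : Subobject (FGA.ET f E Q)), P Q.hom ∧ C.P Q K ∧
      ∀ (T : Over S) (K' : Subobject (FGA.ET f E T)),
        C.P T K' → ∃! g : T ⟶ Q, FGA.quotPull f E g K = K' := by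
  obtain ⟨K, hKP, hK⟩ := exists_family c
  refine ⟨glObj c, K, ?_, hKP, fun T K' hK' => ?_⟩
  · rw [IsZariskiLocalAtTarget.iff_of_openCover (P := P) S.directedAffineCover]
    intro U
    have e := ((gluing c).isPullback_natTrans_ι_toBase U).flip
    change P (pullback.snd (gluing c).toBase U.1.ι)
    refine (P.cancel_left_of_respectsIso e.isoPullback.hom _).mp ?_
    exact Eq.mpr (congrArg (fun z ↦ P z) e.isoPullback_hom_snd) (hP U)
  let 𝒰 := S.directedAffineCover.pullback₁ T.hom
  let V : 𝒰.I₀ → Over S := fun U => Over.mk (𝒰.f U ≫ T.hom)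
  let v : ∀ U, V U ⟶ T := fun U => Over.homMk (𝒰.f U) rfl
  have : ∀ U, IsOpenImmersion (v U).left := fun U => inferInstanceAs (IsOpenImmersion (𝒰.f U))
  have hrange : ∀ U : S.affineOpens, Set.range (V U).hom ⊆ (U.1 : Set S) := by
    rintro U _ ⟨x, rfl⟩
    show (pullback.fst T.hom U.1.ι ≫ T.hom) x ∈ _
    rw [pullback.condition, Scheme.Hom.comp_apply]
    exact (pullback.snd T.hom U.1.ι x).2
  choose g hg hgu using fun U : S.affineOpens => (c U).rep (V U) (hrange U) _ (C.pull (v U) K' hK')
  let gl : ∀ U, 𝒰.X U ⟶ (gluing c).glued := fun U ↦ (g U ≫ incl c U).left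
  have hcompat : ∀ {U U' : 𝒰.I₀} (h : U ⟶ U'), Scheme.Cover.trans 𝒰 h ≫ gl U' = gl U := by
    intro U U' h
    let b : V U ⟶ V U' := Over.homMk (Scheme.Cover.trans 𝒰 h) (by
      show Scheme.Cover.trans 𝒰 h ≫ 𝒰.f U' ≫ T.hom = 𝒰.f U ≫ T.hom
      rw [← Category.assoc, Scheme.Cover.trans_map])
    have hb : b ≫ v U' = v U := Over.OverMorphism.ext (Scheme.Cover.trans_map 𝒰 h)
    have hg1 : FGA.quotPull f E (g U') (c U').K = FGA.quotPull f E (v U') K' := hg U'
    have hg2 : FGA.quotPull f E (g U) (c U).K = FGA.quotPull f E (v U) K' := hg U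
    have e : b ≫ g U' = g U ≫ tr c (U := U) (V := U') (leOfHom (X := S.affineOpens) h) :=
      ext c (fun _ hx ↦ leOfHom (X := S.affineOpens) h (hrange U hx)) (by
        rw [← quotPull_comp, hg1, quotPull_comp, hb, ← quotPull_comp, tr_spec, hg2])
    have := congrArg (fun z ↦ (z ≫ incl c U').left) e
    simp only [Category.assoc, tr_incl, Over.comp_left] at this
    exact this
  let G : T ⟶ glObj c :=
    Over.homMk (Scheme.OpenCover.glueMorphismsOfLocallyDirected 𝒰 gl hcompat) (by
      refine Scheme.Cover.hom_ext 𝒰 _ _ fun U ↦ ?_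
      rw [← Category.assoc, Scheme.OpenCover.map_glueMorphismsOfLocallyDirected]
      exact Over.w (g U ≫ incl c U))
  have hG : ∀ U, v U ≫ G = g U ≫ incl c U := fun U ↦ Over.OverMorphism.ext
    (Scheme.OpenCover.map_glueMorphismsOfLocallyDirected 𝒰 gl hcompat U)
  refine ⟨G, eq_of_cover f v (fun t => ⟨_, Scheme.Cover.covers 𝒰 t⟩) _ _ fun U => ?_, fun G' hG' => ?_⟩
  · rw [quotPull_comp, hG, ← quotPull_comp, hK]
    exact hg U
  · refine Over.OverMorphism.ext (Scheme.Cover.hom_ext 𝒰 _ _ fun (U : S.affineOpens) ↦ ?_)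
    obtain ⟨w, hw⟩ := exists_factor c U (hrange U) (v U ≫ G')
    have hwg : w = g U := hgu U w (by
      show FGA.quotPull f E w (c U).K = FGA.quotPull f E (v U) K'
      rw [← hK U, quotPull_comp, hw, ← quotPull_comp, hG'])
    exact congrArg (fun z ↦ z.left) ((hw.symm.trans (by rw [hwg])).trans (hG U).symm)

end LocalChart

end Groth.GrassSub
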