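import Groth.Agent.GrassSub.HilbProper
import Groth.Agent.GrassSub.AffineSquare
import Groth.Agent.Pi1FEt.RankPush
import Groth.Agent.QCohMod.FTCriterion
import Groth.Agent.PnHyper.Lift
import Groth.Agent.HilbPts.GlueRep

/-!
# The Hilbert scheme of points of a finite morphism in a Grassmannian

A family `Z ⊆ X_T` of degree `d` gives the quotient `T^* f_* O_X ⟶ p_* O_Z` of rank `d`; this
identifies the Hilbert scheme of points with a closed subscheme of a Grassmannian.
-/

set_option autoImplicit false
set_option linter.style.haveILetI false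

universe u

open CategoryTheory Limits AlgebraicGeometry TopologicalSpace
open Groth.HilbPts (pullObj pull_le_ker le_ker_iff XTmap_fst XTmap_proj)
open Groth.PicAux (pullSec res)

noncomputable section

namespace Groth.GrassSub

variable {X S : Scheme.{u}} {f : X ⟶ S} {d : ℕ}

variable (f) in
/-- The direct image of the structure sheaf. -/
abbrev algSheaf : S.Modules := (Scheme.Modules.pushforward f).obj (Coh.structureModule X)

/-- The direct image of the structure sheaf under a finite morphism is coherent. -/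
theorem isCoh_algSheaf (f : X ⟶ S) [IsFinite f] : Coh.IsCoh (algSheaf f) := by
  have := PicAux.isQCoh_structureModule X
  have := QCohMod.isQCoh_pushforward (Coh.structureModule X) f
  refine ⟨this, QCohMod.isFT_of_affine_cover _ fun x => ?_⟩
  obtain ⟨U, hU, hx⟩ := QCohMod.exists_affine_mem x
  refine ⟨U, hU, hx, ?_⟩
  have hfin : (f.app U).hom.Finite := f.finite_app U hU
  algebraize [(f.app U).hom]
  exact (Module.Finite.equiv_iff
    { toFun := fun x => x
      invFun := fun x => x
      map_add' := fun _ _ => rfl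
      map_smul' := fun _ _ => rfl : Γ(X, f ⁻¹ᵁ U) ≃ₗ[Γ(S, U)] Γ(algSheaf f, U) }).1 inferInstance

variable {T T' : Over S}

/-- The structure morphism of a family. -/
abbrev famProj (W : HilbD.Obj f d T) : W.1.subscheme ⟶ T.left :=
  W.1.subschemeι ≫ PicF.XTproj f T

/-- The direct image of the structure sheaf of a family. -/
abbrev famSheaf (W : HilbD.Obj f d T) : T.left.Modules :=
  (Scheme.Modules.pushforward (famProj W)).obj (Coh.structureModule W.1.subscheme)

theorem famSquare (W : HilbD.Obj f d T) :
    (W.1.subschemeι ≫ pullback.fst f T.hom) ≫ f = famProj W ≫ T.hom := by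
  simp [famProj, PicF.XTproj, pullback.condition]

/-- The quotient of a family. -/
def famQuot (W : HilbD.Obj f d T) :
    (Scheme.Modules.pullback T.hom).obj (algSheaf f) ⟶ famSheaf W :=
  sqMap (famSquare W)

theorem isFinite_famProj (W : HilbD.Obj f d T) : IsFinite (famProj W) := W.2.1.1

theorem lift_famSquare (W : HilbD.Obj f d T) :
    pullback.lift _ _ (famSquare W) = W.1.subschemeι :=
  pullback.hom_ext (pullback.lift_fst _ _ _) (pullback.lift_snd _ _ _)

theorem rank_famSheaf (W : HilbD.Obj f d T) : FlatMod.IsFinLocFreeOfRank d (famSheaf W) := by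
  obtain ⟨⟨h1, h2, h3⟩, h4⟩ := W.2
  exact Pi1FEt.isFinLocFreeOfRank_of_finrank (famProj W) d h4

theorem epi_famQuot [IsFinite f] (W : HilbD.Obj f d T) : Epi (famQuot W) := by
  have : IsClosedImmersion (pullback.lift _ _ (famSquare W)) := by
    rw [lift_famSquare]; infer_instance
  exact epi_sqMap (famSquare W)

/-- The quotient of a base change of a family is the base change of the quotient. -/
theorem exists_iso_famQuot [IsFinite f] (g : T' ⟶ T) (W : HilbD.Obj f d T) :
    ∃ e : (Scheme.Modules.pullback g.left).obj (famSheaf W) ≅ famSheaf (pullObj g W),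
      Grass.quotBC (Over.w g) (famQuot W) ≫ e.hom = famQuot (pullObj g W) := by
  let W' := pullObj g W
  obtain ⟨z, hz⟩ := (le_ker_iff _ _).1 ((pull_le_ker f g W.1 W'.1.subschemeι).1
    (Scheme.IdealSheafData.ker_subschemeι _).ge)
  have w' : z ≫ famProj W = famProj W' ≫ g.left := by
    rw [← Category.assoc, hz, Category.assoc, Category.assoc]
    exact congrArg _ (XTmap_proj f g)
  have hm : z ≫ W.1.subschemeι ≫ pullback.fst f T.hom =
      W'.1.subschemeι ≫ pullback.fst f T'.hom := by
    rw [reassoc_of% hz, XTmap_fst]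
  have := isFinite_famProj W
  have : IsClosedImmersion (pullback.lift z (famProj W') w') := by
    let b : pullback (famProj W) g.left ⟶ PicF.XT f T' :=
      pullback.lift (pullback.fst _ _ ≫ W.1.subschemeι ≫ pullback.fst f T.hom) (pullback.snd _ _)
        (by simp only [Category.assoc]
            rw [← Over.w g, ← pullback.condition_assoc, pullback.condition]
            simp)
    have hb : b ≫ pullback.snd f T'.hom = pullback.snd _ _ := pullback.lift_snd _ _ _
    have : IsSeparated (b ≫ pullback.snd f T'.hom) := by rw [hb]; infer_instance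
    have : IsSeparated b := IsSeparated.of_comp b (pullback.snd f T'.hom)
    have hl : pullback.lift z (famProj W') w' ≫ b = W'.1.subschemeι := by
      apply pullback.hom_ext
      · rw [Category.assoc, pullback.lift_fst, pullback.lift_fst_assoc, hm]
      · rw [Category.assoc, hb, pullback.lift_snd]
    have : IsClosedImmersion (pullback.lift z (famProj W') w' ≫ b) := by rw [hl]; infer_instance
    exact IsClosedImmersion.of_comp _ b
  have := epi_sqMap w'
  have := PnHyper.isIso_of_epi_rank
    (LocFree.isFinLocFreeOfRank_pullback g.left (rank_famSheaf W)) (rank_famSheaf W') (sqMap w')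
  exact ⟨asIso (sqMap w'), sqMap_comp _ _ (Over.w g) hm _⟩

/-- A family is determined by its quotient. -/
theorem le_of_famQuot [IsFinite f] {W W' : HilbD.Obj f d T} (ε : famSheaf W ⟶ famSheaf W')
    (h : famQuot W ≫ ε = famQuot W') : W.1 ≤ W'.1 := by
  have haff : IsAffineHom (PicF.XTproj f T) :=
    MorphismProperty.of_isPullback (IsPullback.of_hasPullback f T.hom) inferInstance
  choose U hU hxU using fun t => QCohMod.exists_affine_mem (T.hom t)
  choose V hV hxV hVU using fun t =>
    exists_isAffineOpen_mem_and_subset (x := t) (U := T.hom ⁻¹ᵁ U t) (hxU t)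
  refine Scheme.IdealSheafData.le_of_iSup_eq_top
    (fun t => ⟨PicF.XTproj f T ⁻¹ᵁ V t, (hV t).preimage (PicF.XTproj f T)⟩)
    (eq_top_iff.2 fun x _ => Opens.mem_iSup.2 ⟨PicF.XTproj f T x, hxV _⟩) fun t x hx => ?_
  rw [← Scheme.IdealSheafData.ker_subschemeι_app, RingHom.mem_ker] at hx ⊢
  have : IsClosedImmersion (pullback.lift (pullback.fst f T.hom) (pullback.snd f T.hom)
      pullback.condition) := by
    rw [show pullback.lift (pullback.fst f T.hom) (pullback.snd f T.hom) pullback.condition = 𝟙 _
      from pullback.hom_ext (by simp) (by simp)]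
    infer_instance
  have e' : PicF.XTproj f T ⁻¹ᵁ V t ≤ pullback.fst f T.hom ⁻¹ᵁ (f ⁻¹ᵁ U t) :=
    (Scheme.Hom.preimage_mono _ (hVU t)).trans (square_le pullback.condition (U t))
  let A := QCohMod.appₗ ε (V t)
  have key : ∀ y, A (W.1.subschemeι.app (PicF.XTproj f T ⁻¹ᵁ V t) y :
        Γ(famSheaf W, V t)) =
      (W'.1.subschemeι.app (PicF.XTproj f T ⁻¹ᵁ V t) y : Γ(famSheaf W', V t)) := by
    intro y
    refine sections_induction (p := f) (p' := PicF.XTproj f T) (m := pullback.fst f T.hom)
      pullback.condition (hU t) (hV t) (hVU t) e'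
      (P := fun y => A (W.1.subschemeι.app (PicF.XTproj f T ⁻¹ᵁ V t) y :
          Γ(famSheaf W, V t)) =
        (W'.1.subschemeι.app (PicF.XTproj f T ⁻¹ᵁ V t) y : Γ(famSheaf W', V t))) ?_ ?_ ?_ ?_ y
    · rw [map_zero, map_zero]
      exact map_zero A
    · intro a b ha hb
      rw [map_add, map_add]
      exact (map_add A _ _).trans (congrArg₂ (· + ·) ha hb)
    · intro v y hy
      rw [map_mul, map_mul]
      exact (A.map_smul v _).trans (congrArg (v • ·) hy)
    · intro b
      have h1 := sqMap_res_pullSec (famSquare W) (hVU t)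
        ((Scheme.Hom.preimage_mono _ (hVU t)).trans (square_le (famSquare W) (U t))) b
      have h2 := sqMap_res_pullSec (famSquare W') (hVU t)
        ((Scheme.Hom.preimage_mono _ (hVU t)).trans (square_le (famSquare W') (U t))) b
      rw [← appLE_top W.1.subschemeι, ← appLE_top W'.1.subschemeι, appLE_appLE, appLE_appLE]
      refine (congrArg A h1.symm).trans (Eq.trans ?_ h2)
      exact congr(($h).app (V t) (res _ (hVU t) (pullSec T.hom _ (b : Γ(algSheaf f, U t)))))
  show W'.1.subschemeι.app _ x = 0
  exact (key x).symm.trans ((congrArg A hx).trans (map_zero A))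

/-- The Hilbert scheme of points of a finite morphism is a closed subscheme of a Grassmannian. -/
theorem exists_hilb_closed (f : X ⟶ S) [IsFinite f] (d : ℕ) :
    ∃ (H : Over S) (Z : HilbD.Obj f d H) (G : Scheme.{u}) (π : G ⟶ S) (Q : G.Modules)
      (q : (Scheme.Modules.pullback π).obj (algSheaf f) ⟶ Q) (c : H.left ⟶ G),
      HilbD.IsUniversal f d H Z ∧ IsProper π ∧ Grass.IsGrass π (algSheaf f) d Q q ∧
        IsClosedImmersion c ∧ c ≫ π = H.hom := by
  obtain ⟨H, Z, hu⟩ := HilbPts.representable_of_points_in_affine (f := f) (d := d) fun s x hx => by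
    obtain ⟨U, hU, hs⟩ := QCohMod.exists_affine_mem s
    exact ⟨f ⁻¹ᵁ U, hU.preimage f, fun i => by
      show f.base (x i) ∈ U
      rw [hx i]; exact hs⟩
  obtain ⟨G, π, Q, q, hπ, hG⟩ := exists_isGrass (isCoh_algSheaf f) d
  obtain ⟨c, ⟨hc, e, he⟩, -⟩ :=
    hG.univ H.left H.hom (famSheaf Z) (rank_famSheaf Z) (famQuot Z) (epi_famQuot Z)
  refine ⟨H, Z, G, π, Q, q, c, hu, hπ, hG, ?_, hc⟩
  have := isProper_of_isUniversal f hu
  have : IsProper (c ≫ π) := by rw [hc]; infer_instance
  have : IsProper c := IsProper.of_comp c π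
  refine (IsClosedImmersion.iff_isProper_and_mono c).2 ⟨inferInstance, ⟨fun {T} a b hab => ?_⟩⟩
  have hag : a ≫ H.hom = b ≫ H.hom := by rw [← hc, reassoc_of% hab]
  let A : Over.mk (b ≫ H.hom) ⟶ H := Over.homMk a hag
  let B : Over.mk (b ≫ H.hom) ⟶ H := Over.homMk b rfl
  suffices HilbD.pull f A Z.1 = HilbD.pull f B Z.1 by
    exact congrArg CommaMorphism.left ((hu _ (pullObj A Z)).unique rfl this.symm)
  obtain ⟨eA, hA⟩ := exists_iso_famQuot A Z
  obtain ⟨eB, hB⟩ := exists_iso_famQuot B Z
  have hab' : A.left ≫ c = B.left ≫ c := hab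
  rw [← GrassRep.quotBC_base_change (Over.w A) hc q _ _ he, GrassRep.quotBC_congr hab'] at hA
  rw [← GrassRep.quotBC_base_change (Over.w B) hc q _ _ he] at hB
  let ψA := (Scheme.Modules.pullbackCongr hab').inv.app Q ≫
    (Scheme.Modules.pullbackComp A.left c).inv.app Q ≫
      (Scheme.Modules.pullback A.left).map e.hom ≫ eA.hom
  let ψB := (Scheme.Modules.pullbackComp B.left c).inv.app Q ≫
      (Scheme.Modules.pullback B.left).map e.hom ≫ eB.hom
  let t := Grass.quotBC (show (B.left ≫ c) ≫ π = b ≫ H.hom by
    rw [Category.assoc, hc]; exact Over.w B) q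
  have hA' : t ≫ ψA = famQuot (pullObj A Z) := by rw [← hA]; simp [t, ψA]
  have hB' : t ≫ ψB = famQuot (pullObj B Z) := by rw [← hB]; simp [t, ψB]
  refine le_antisymm (le_of_famQuot (W := pullObj A Z) (W' := pullObj B Z) (inv ψA ≫ ψB) ?_)
    (le_of_famQuot (W := pullObj B Z) (W' := pullObj A Z) (inv ψB ≫ ψA) ?_)
  · rw [← hA', ← hB']
    exact (Category.assoc _ _ _).trans (congrArg (t ≫ ·) (IsIso.hom_inv_id_assoc ψA ψB))
  · rw [← hA', ← hB']
    exact (Category.assoc _ _ _).trans (congrArg (t ≫ ·) (IsIso.hom_inv_id_assoc ψB ψA))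

end Groth.GrassSub
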