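import Groth.Agent.GrassSub.HilbGrass
import Groth.Agent.GrassSub.Plucker
import Groth.Agent.RelTwist.ProjUnivD
import Groth.Agent.RelTwist.ProjBdl
import Groth.Agent.RelTwist.Exist
import Groth.Agent.RelTwist.Taut
import Groth.Agent.SymAlg.Univ
import Groth.Agent.Ega2Proj.PolEmb
import Groth.Agent.Ega2Proj2.RelProjBasic
import Groth.Agent.LocFree.ExtPow

/-!
# Grassmannians and Hilbert schemes of points of finite morphisms are projective
-/

set_option autoImplicit false
set_option linter.style.haveILetI false

universe u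

open CategoryTheory Limits AlgebraicGeometry TopologicalSpace
open Groth.LocFree (extPow)

noncomputable section

namespace Groth.GrassSub

variable {S : Scheme.{u}}

/-- Exterior powers of modules of finite type are of finite type. -/
theorem isFT_extPow {E : S.Modules} [E.IsQuasicoherent] (hE : CohB1.IsFT E) (r : ℕ) :
    CohB1.IsFT (extPow r E) := by
  have := LocFree.isQCoh_extPow r E
  refine (QCohMod.isFT_iff _).2 fun U hU => ?_
  have := (QCohMod.isFT_iff E).1 hE U hU
  exact Module.Finite.of_surjective (LocFree.extUnit r E U) (LocFree.extUnit_bijective r E hU).2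

/-- Closed subschemes of Grassmannians of coherent modules are projective. -/
theorem isProjective_of_isGrass {E : S.Modules} (hE : Coh.IsCoh E) {G : Scheme.{u}} {π : G ⟶ S}
    {r : ℕ} {Q : G.Modules} {q : (Scheme.Modules.pullback π).obj E ⟶ Q}
    (hG : Grass.IsGrass π E r Q q) [IsProper π] {X : Scheme.{u}} (i : X ⟶ G) [IsClosedImmersion i] :
    RelProj.IsProjective (i ≫ π) := by
  have : E.IsQuasicoherent := hE.1
  have := LocFree.isQCoh_extPow r E
  have hFT := isFT_extPow hE.2 r
  have hj := SymAlg.isGrSymAlg_symGr (E := extPow r E)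
  obtain ⟨P, p, chart, hP⟩ := Ega2P2.exists_isRelProj (SymAlg.symGr (extPow r E))
  have hO1 := RelTw.isRelTwist_relTwist hP 1
  obtain ⟨φ, hφ⟩ := RelTw.exists_phi hj hP hO1
  have hp : RelProj.IsProjective p :=
    ⟨_, P, p, chart, Iso.refl P, Ega2Proj.isGenDegOne_sym hj,
      Ega2Proj.isFTDeg_one_sym hj (fun U hU => QCohMod.finite_sections _ hFT hU), hP,
      Category.id_comp p⟩
  have : IsProper p := Chow.isProper_of_isProjective hp
  have := epi_plkQuot hG (Iso.refl (extPow r E))
  have hinv : PicF.IsInvertible (extPow r Q) := LocFree.isInvertible_iff_ofRank_one.2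
    (Nat.choose_self r ▸ LocFree.isFinLocFreeOfRank_extPow hG.rank r)
  obtain ⟨c, ⟨hc, τ, hτ⟩, -⟩ :=
    RelTw.existsUnique_toProjBdl hj hP hO1 hφ hinv (plkQuot (Iso.refl (extPow r E)) q)
  have := isClosedImmersion_plucker hG (Iso.refl (extPow r E))
    (((Scheme.Modules.pullbackPushforwardAdjunction p).homEquiv _ _).symm φ) c hc τ
    (by rw [← hτ]; simp [Grass.quotBC, Category.assoc])
  have h := Ega2Proj.ClosedProj.isProjective_comp_closedImmersion hp (i ≫ c)
  rwa [Category.assoc, hc] at h

end Groth.GrassSub
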