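import Groth.Agent.HilbPts.Transfer
import Groth.Agent.GrassRep.Linked

/-!
# Hilbert schemes of points of finite morphisms are proper
-/

set_option autoImplicit false
set_option linter.style.haveILetI false

universe u

open CategoryTheory Limits AlgebraicGeometry TensorProduct
open Groth.GrassRep (Pt ptMap grass pts pts_natural Natural)
open Groth.HilbPts (f₀ IsIdeal objEquiv pull_objEquiv pullObj pull_pull up inP_up exists_up_eq
  up_injective pull_up mapT mapHom pull_id InP)

noncomputable section

namespace Groth.GrassSub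

/-- The Grassmannian of a finite module is proper. -/
theorem isProper_grass (R : Type u) [CommRing R] (B : Type u) [AddCommGroup B] [Module R B]
    [Module.Finite R B] (k : ℕ) : IsProper (grass R B k).hom := by
  obtain ⟨m, g, hg⟩ := Module.Finite.exists_fin' R B
  let v : (Fin (k + m) → R) →ₗ[R] B :=
    g ∘ₗ LinearMap.funLeft R R (fun i : Fin m => (Fin.natAdd k i : Fin (k + m)))
  have hv : Function.Surjective v :=
    hg.comp (LinearMap.funLeft_surjective_of_injective R R _ fun i j h => by
      simpa [Fin.ext_iff] using h)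
  have he : ∀ (M : Type u) [AddCommGroup M] [Module R M],
      Natural (grass R M k) (pts R M k) := fun M _ _ A C φ g g' h => by
    obtain rfl := (GrassRep.left_eq_iff φ g g').1 h
    exact (pts_natural A C φ g).trans (by rw [Module.Grassmannian.functor_map]; rfl)
  obtain ⟨⟨c, hc⟩, himm⟩ := GrassRep.isClosedImmersion_comap v hv
    (he (Fin (k + m) → R)) (he B)
  have := himm c hc
  have := GrassRep.isProper_free (Nat.le_add_right k m) (he (Fin (k + m) → R))
  rw [← Over.w c]
  infer_instance

variable {R : Type u} [CommRing R] (B : Type u) [CommRing B] [Algebra R B]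

/-- Over an affine base every Hilbert scheme of points of a finite algebra is proper. -/
theorem isProper_hilb_affine [Module.Finite R B] (d : ℕ) {H : Over (Spec (CommRingCat.of R))}
    {W : HilbD.Obj (f₀ (R := R) B) d H} (hW : HilbD.IsUniversal (f₀ (R := R) B) d H W) :
    IsProper H.hom := by
  have he : Natural (grass R B d) (fun A => pts R B d A) := fun A C φ g g' h => by
    obtain rfl := (GrassRep.left_eq_iff φ g g').mp h
    rw [Module.Grassmannian.functor_map]
    exact pts_natural A C φ g
  obtain ⟨Z, c, hc, hZ⟩ := he.exists_closed (fun A N => IsIdeal B A N)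
    GrassRep.exists_ideal_stable
  have hmono : Mono c := (Over.forget _).mono_of_mono_map (show Mono c.left from inferInstance)
  let P : ∀ A : CommAlgCat.{u} R, (Pt A ⟶ Z) ≃
      {N : Module.Grassmannian A (A ⊗[R] B) d // IsIdeal B A N} := fun A =>
    Equiv.ofBijective (fun z => ⟨pts R B d A (z ≫ c), (hZ A _).1 ⟨z, rfl⟩⟩) (by
      refine ⟨fun z z' h => ?_, fun N => ?_⟩
      · exact (cancel_mono c).1 ((pts R B d A).injective (congrArg Subtype.val h))
      · obtain ⟨g, hg⟩ := (pts R B d A).surjective N.1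
        obtain ⟨z, hz⟩ := (hZ A g).2 (hg ▸ N.2)
        exact ⟨z, Subtype.ext (by rw [← hg, ← hz])⟩)
  let U : ∀ A : CommAlgCat.{u} R, (Pt A ⟶ H) ≃ HilbD.Obj (f₀ (R := R) B) d (Pt A) := fun A =>
    Equiv.ofBijective (fun g => pullObj g W) ⟨fun g g' h => (hW _ (pullObj g W)).unique rfl
      (congrArg Subtype.val h).symm, fun V => by
        obtain ⟨g, hg, -⟩ := hW _ V
        exact ⟨g, Subtype.ext hg⟩⟩
  let θ : ∀ A : CommAlgCat.{u} R, (Pt A ⟶ Z) ≃ (Pt A ⟶ H) := fun A =>
    (P A).trans ((objEquiv d A).trans (U A).symm)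
  obtain ⟨i, -⟩ := GrassRep.exists_iso_of_pts θ fun A C φ g => by
    apply (U C).injective
    refine Subtype.ext ?_
    show (U C (θ C (ptMap φ ≫ g))).1 = HilbD.pull _ (ptMap φ ≫ θ A g) W.1
    have hθ : ∀ (A : CommAlgCat.{u} R) (g : Pt A ⟶ Z), U A (θ A g) = objEquiv d A (P A g) :=
      fun A g => (U A).apply_symm_apply _
    rw [hθ, ← pull_pull]
    show _ = HilbD.pull _ (ptMap φ) (U A (θ A g)).1
    rw [hθ]
    have e : pts R B d C ((ptMap φ ≫ g) ≫ c) =
        Module.Grassmannian.map φ.hom (pts R B d A (g ≫ c)) := by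
      rw [Category.assoc]
      exact pts_natural A C φ (g ≫ c)
    have hI : IsIdeal B C (Module.Grassmannian.map φ.hom (P A g).1) := e ▸ (P C (ptMap φ ≫ g)).2
    refine Eq.trans ?_ (pull_objEquiv φ (P A g) hI).symm
    exact congrArg (fun N => (objEquiv d C N).1) (Subtype.ext e)
  have := hc
  have := isProper_grass R B d
  have hZp : IsProper Z.hom := by rw [← Over.w c]; infer_instance
  rw [← Over.w i.inv]
  have : IsIso i.inv.left := inferInstanceAs (IsIso ((Over.forget _).map i.inv))
  infer_instance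

/-- Hilbert schemes of points of finite morphisms are proper. -/
theorem isProper_of_isUniversal {X S : Scheme.{u}} (f : X ⟶ S) [IsFinite f] {d : ℕ} {H : Over S}
    {Z : HilbD.Obj f d H} (hu : HilbD.IsUniversal f d H Z) : IsProper H.hom := by
  rw [IsZariskiLocalAtTarget.iff_of_openCover (P := @IsProper) S.affineCover]
  intro k
  obtain ⟨Rc, e, _, he⟩ : ∃ (Rc : CommRingCat.{u}) (e : Spec Rc ⟶ S) (_ : IsOpenImmersion e),
      (IsProper (pullback.snd H.hom e) → IsProper (S.affineCover.pullbackHom H.hom k)) :=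
    ⟨_, S.affineCover.f k, S.affineCover.map_prop k, id⟩
  refine he ?_
  let X' := pullback f e
  have : IsAffine X' := by
    have : IsFinite (pullback.snd f e) := inferInstance
    exact isAffine_of_isAffineHom (pullback.snd f e)
  let ψ : X'.isoSpec.inv ≫ pullback.snd f e = Spec.map ((Scheme.ΓSpecIso Rc).inv ≫
      (pullback.snd f e).appTop) := by
    rw [Spec.map_comp, ← Scheme.isoSpec_inv_naturality]
    simp [Scheme.isoSpec_Spec_inv]
  letI : Algebra Rc Γ(X', ⊤) :=
    ((Scheme.ΓSpecIso Rc).inv ≫ (pullback.snd f e).appTop).hom.toAlgebra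
  let B : Type u := Γ(X', ⊤)
  let j : Spec (CommRingCat.of B) ⟶ X := X'.isoSpec.inv ≫ pullback.fst f e
  have w : j ≫ f = f₀ (R := Rc) B ≫ e := by
    show (X'.isoSpec.inv ≫ pullback.fst f e) ≫ f = _
    rw [Category.assoc, pullback.condition, ← Category.assoc, ψ]
    rfl
  have : IsOpenImmersion j := inferInstanceAs (IsOpenImmersion (X'.isoSpec.inv ≫ pullback.fst f e))
  have : Module.Finite Rc B := by
    have h : IsFinite (Spec.map ((Scheme.ΓSpecIso Rc).inv ≫ (pullback.snd f e).appTop)) := by
      rw [← ψ]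
      infer_instance
    rw [IsFinite.SpecMap_iff] at h
    exact h
  have hInP : ∀ (T₀ : Over (Spec (CommRingCat.of Rc))) (V : HilbD.Obj f d (mapT e T₀)),
      InP j e V.1 := fun T₀ V => ⟨⟨T₀.hom, rfl⟩,
    pullback.lift (V.1.subschemeι ≫ pullback.fst f (mapT e T₀).hom)
      (V.1.subschemeι ≫ pullback.snd f (mapT e T₀).hom ≫ T₀.hom) (by
        rw [Category.assoc, pullback.condition, Category.assoc, Category.assoc]
        rfl) ≫ X'.isoSpec.hom, by
    show (_ ≫ X'.isoSpec.hom) ≫ X'.isoSpec.inv ≫ pullback.fst f e = _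
    rw [Category.assoc, Iso.hom_inv_id_assoc, pullback.lift_fst]⟩
  let H₀ : Over (Spec (CommRingCat.of Rc)) := Over.mk (pullback.snd H.hom e)
  let incl : mapT e H₀ ⟶ H := Over.homMk (pullback.fst H.hom e) pullback.condition
  obtain ⟨Z₀, hZ₀⟩ := exists_up_eq w (pullObj incl Z) (hInP _ _)
  refine isProper_hilb_affine (R := Rc) B d (W := Z₀) fun T₀ V => ?_
  obtain ⟨g, hg, hgu⟩ := hu (mapT e T₀) (up w V)
  let u : T₀ ⟶ H₀ := Over.homMk (pullback.lift g.left T₀.hom (Over.w g)) (pullback.lift_snd _ _ _)
  have key : ∀ v : T₀ ⟶ H₀, HilbD.pull f (mapHom e v ≫ incl) Z.1 = (up w (pullObj v Z₀)).1 :=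
    fun v => by
      rw [← pull_pull]
      show HilbD.pull f (mapHom e v) (pullObj incl Z).1 = _
      rw [← hZ₀, pull_up]
  have hu' : mapHom e u ≫ incl = g := Over.OverMorphism.ext (pullback.lift_fst _ _ _)
  refine ⟨u, ?_, fun v hv => ?_⟩
  · have h : (up w (pullObj u Z₀)).1 = (up w V).1 := by rw [← key, hu', hg]
    exact congrArg Subtype.val (up_injective w h)
  · have h : mapHom e v ≫ incl = g := hgu _ (by
      show HilbD.pull f (mapHom e v ≫ incl) Z.1 = _
      rw [key, show pullObj v Z₀ = V from Subtype.ext hv])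
    refine Over.OverMorphism.ext (pullback.hom_ext ?_ ?_)
    · exact (congrArg CommaMorphism.left h).trans (pullback.lift_fst _ _ _).symm
    · exact (Over.w v).trans (pullback.lift_snd _ _ _).symm

end Groth.GrassSub
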