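import Groth.Agent.GrassRep.QuotBC
import Groth.Agent.GrassRep.MapOfEpi
import Groth.Agent.PicAux.PullTensor
import Groth.Agent.PicAux.PicLaw
import Groth.Agent.PicAux.GenLocusAffine
import Groth.Agent.RelTwist.ProjUnivD

/-!
# Twisting a projective bundle by an invertible module
-/

set_option autoImplicit false
set_option linter.style.haveILetI false
set_option backward.isDefEq.respectTransparency.types false

universe u

open CategoryTheory Limits AlgebraicGeometry
open Groth.PicAux (pullSec pullSec_map tmulSec)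

noncomputable section

namespace Groth.ProjTwist

variable {Y : Scheme.{u}}

/-- Invertible quotients of inverse images of `E` are classified by `P`. -/
structure IsBdl {P : Scheme.{u}} (p : P ⟶ Y) (E : Y.Modules) (O1 : P.Modules)
    (a : (Scheme.Modules.pullback p).obj E ⟶ O1) : Prop where
  inv : PicF.IsInvertible O1
  epi : Epi a
  univ : ∀ {T : Scheme.{u}} (g : T ⟶ Y) {L : T.Modules}, PicF.IsInvertible L →
    ∀ (s : (Scheme.Modules.pullback g).obj E ⟶ L), Epi s →
      ∃! r : T ⟶ P, ∃ (hr : r ≫ p = g) (τ : (Scheme.Modules.pullback r).obj O1 ≅ L),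
        Grass.quotBC hr a ≫ τ.hom = s

/-- The twist of a quotient. -/
def twistQuot {T : Scheme.{u}} (g : T ⟶ Y) {E : Y.Modules} (L : Y.Modules) {L0 : T.Modules}
    (s : (Scheme.Modules.pullback g).obj E ⟶ L0) :
    (Scheme.Modules.pullback g).obj (CohB1.tensorMod E L) ⟶
      CohB1.tensorMod L0 ((Scheme.Modules.pullback g).obj L) :=
  (PicAux.exists_pullback_tensorMod g E L).choose.hom ≫
    (DCoh.tensorRightMod ((Scheme.Modules.pullback g).obj L)).map s

theorem twistQuot_comp {T : Scheme.{u}} (g : T ⟶ Y) {E : Y.Modules} (L : Y.Modules) {L0 L1 : T.Modules}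
    (s : (Scheme.Modules.pullback g).obj E ⟶ L0) (θ : L0 ⟶ L1) :
    twistQuot g L (s ≫ θ) =
      twistQuot g L s ≫ (DCoh.tensorRightMod ((Scheme.Modules.pullback g).obj L)).map θ := by
  rw [twistQuot, twistQuot, Functor.map_comp]
  exact (Category.assoc _ _ _).symm

theorem twistQuot_tmul {T : Scheme.{u}} (g : T ⟶ Y) {E : Y.Modules} (L : Y.Modules) {L0 : T.Modules}
    (s : (Scheme.Modules.pullback g).obj E ⟶ L0) (W : Y.Opens) (a : Γ(E, W)) (l : Γ(L, W)) :
    (twistQuot g L s).app (g ⁻¹ᵁ W) (pullSec g _ (tmulSec a l : Γ(CohB1.tensorMod E L, W))) =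
      (tmulSec (s.app (g ⁻¹ᵁ W) (pullSec g E a)) (pullSec g L l) :
        Γ(CohB1.tensorMod L0 ((Scheme.Modules.pullback g).obj L), g ⁻¹ᵁ W)) := by
  have h := (PicAux.exists_pullback_tensorMod g E L).choose_spec W a l
  exact (congrArg (((DCoh.tensorRightMod ((Scheme.Modules.pullback g).obj L)).map s).app (g ⁻¹ᵁ W)) h).trans
    (PicAux.tensorRightMod_map_tmulSec _ s _ _ _)

theorem epi_twistQuot {T : Scheme.{u}} (g : T ⟶ Y) {E L : Y.Modules} (hL : PicF.IsInvertible L)
    {L0 : T.Modules} (s : (Scheme.Modules.pullback g).obj E ⟶ L0) [Epi s] : Epi (twistQuot g L s) := by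
  have := PicAux.isEquivalence_tensorRightMod_of_isInvertible (PicAux.isInvertible_pullback g hL)
  have : (DCoh.tensorRightMod ((Scheme.Modules.pullback g).obj L)).PreservesEpimorphisms :=
    Functor.preservesEpimorphisms_of_adjunction
      (DCoh.tensorRightMod ((Scheme.Modules.pullback g).obj L)).asEquivalence.toAdjunction
  exact epi_comp' inferInstance (Functor.map_epi _ s)

theorem tensorModIso_tmulSec {T : Scheme.{u}} {L L' M M' : T.Modules} (e : L ≅ L') (f : M ≅ M')
    (U : T.Opens) (a : Γ(L, U)) (b : Γ(M, U)) :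
    (PicGrp.tensorModIso e f).hom.app U (tmulSec a b) = tmulSec (e.hom.app U a) (f.hom.app U b) := by
  have h := PicAux.tensorMap_app_tmulSec e.hom f.hom U a b
  rw [KoszTw.tensorMap_eq_sheafify] at h
  exact h

/-- Twisting commutes with base change of quotients. -/
theorem quotBC_twistQuot {G T : Scheme.{u}} {π : G ⟶ Y} {h : T ⟶ G} {g : T ⟶ Y} (hg : h ≫ π = g)
    {E : Y.Modules} (L : Y.Modules) {L0 : G.Modules} (s : (Scheme.Modules.pullback π).obj E ⟶ L0) :
    ∃ ν : (Scheme.Modules.pullback h).obj (CohB1.tensorMod L0 ((Scheme.Modules.pullback π).obj L)) ≅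
        CohB1.tensorMod ((Scheme.Modules.pullback h).obj L0) ((Scheme.Modules.pullback g).obj L),
      Grass.quotBC hg (twistQuot π L s) ≫ ν.hom = twistQuot g L (Grass.quotBC hg s) := by
  subst hg
  obtain ⟨μ, hμ⟩ := PicAux.exists_pullback_tensorMod h L0 ((Scheme.Modules.pullback π).obj L)
  refine ⟨μ ≪≫ PicGrp.tensorModIso (Iso.refl _) ((Scheme.Modules.pullbackComp h π).app L), ?_⟩
  refine ((Scheme.Modules.pullbackPushforwardAdjunction (h ≫ π)).homEquiv _ _).injective
    (PicAux.tensor_hom_ext fun W a l => ?_)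
  rw [Adjunction.homEquiv_unit, Adjunction.homEquiv_unit]
  refine Eq.trans ?_ (twistQuot_tmul (h ≫ π) L (Grass.quotBC rfl s) W a l).symm
  simp only [Grass.quotBC, GrassRep.pullbackCongr_rfl_inv, Category.id_comp, Iso.trans_hom]
  change (PicGrp.tensorModIso _ _).hom.app (h ⁻¹ᵁ π ⁻¹ᵁ W) (μ.hom.app (h ⁻¹ᵁ π ⁻¹ᵁ W)
    (((Scheme.Modules.pullback h).map _).app (h ⁻¹ᵁ π ⁻¹ᵁ W)
    (((Scheme.Modules.pullbackComp h π).inv.app _).app (h ⁻¹ᵁ π ⁻¹ᵁ W)
      (pullSec (h ≫ π) _ (tmulSec a l))))) = _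
  rw [RelTw.pullbackComp_inv_pullSec]
  have h1 := pullSec_map h (twistQuot π L s)
    (pullSec π _ (tmulSec a l : Γ(CohB1.tensorMod E L, W)))
  refine (congrArg (fun z => (PicGrp.tensorModIso (Iso.refl _)
    ((Scheme.Modules.pullbackComp h π).app L)).hom.app _ (μ.hom.app _ z)) h1).trans ?_
  rw [twistQuot_tmul]
  refine (congrArg ((PicGrp.tensorModIso (Iso.refl _)
    ((Scheme.Modules.pullbackComp h π).app L)).hom.app _) (hμ _ _ _)).trans ?_
  refine (tensorModIso_tmulSec _ _ _ _ _).trans ?_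
  refine congrArg₂ tmulSec ?_ (PicAux.pullSec_comp h π L l)
  change pullSec h L0 _ = ((Scheme.Modules.pullback h).map s).app (h ⁻¹ᵁ π ⁻¹ᵁ W)
    (((Scheme.Modules.pullbackComp h π).inv.app _).app (h ⁻¹ᵁ π ⁻¹ᵁ W) (pullSec (h ≫ π) E a))
  rw [RelTw.pullbackComp_inv_pullSec, pullSec_map]

/-- The projective bundle of a twisted module is the same scheme with a twisted quotient. -/
theorem exists_iso_twist {P Q : Scheme.{u}} {p : P ⟶ Y} {q : Q ⟶ Y} {E L : Y.Modules}
    (hL : PicF.IsInvertible L) {O1 : P.Modules} {a : (Scheme.Modules.pullback p).obj E ⟶ O1}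
    {O1' : Q.Modules} {b : (Scheme.Modules.pullback q).obj (CohB1.tensorMod E L) ⟶ O1'}
    (hP : IsBdl p E O1 a) (hQ : IsBdl q (CohB1.tensorMod E L) O1' b) :
    ∃ i : P ≅ Q, i.hom ≫ q = p ∧
      Nonempty ((Scheme.Modules.pullback i.hom).obj O1' ≅
        CohB1.tensorMod O1 ((Scheme.Modules.pullback p).obj L)) := by
  have hpL := PicAux.isInvertible_pullback p hL
  have hqL := PicAux.isInvertible_pullback q hL
  have := hP.epi
  have := hQ.epi
  have := PicAux.isEquivalence_tensorRightMod_of_isInvertible hpL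
  have := PicAux.isEquivalence_tensorRightMod_of_isInvertible hqL
  -- the morphism to the twisted bundle
  obtain ⟨r₁, ⟨h₁, τ₁, hτ₁⟩, -⟩ := hQ.univ p (PicAux.isInvertible_tensorMod hP.inv hpL)
    (twistQuot p L a) (epi_twistQuot p hL a)
  -- the untwisted quotient
  obtain ⟨N, hN, hinv⟩ := PicAux.exists_isInverseOf hqL
  let F := DCoh.tensorRightMod ((Scheme.Modules.pullback q).obj L)
  let L' := F.objPreimage O1'
  let γ : CohB1.tensorMod L' ((Scheme.Modules.pullback q).obj L) ≅ O1' := F.objObjPreimageIso O1'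
  let μ := (PicAux.exists_pullback_tensorMod q E L).choose
  let t : (Scheme.Modules.pullback q).obj E ⟶ L' := F.preimage (μ.inv ≫ b ≫ γ.inv)
  have ht : twistQuot q L t ≫ γ.hom = b := by
    have h : F.map t = μ.inv ≫ b ≫ γ.inv := F.map_preimage _
    have h1 : μ.hom ≫ F.map t = b ≫ γ.inv :=
      (congrArg (μ.hom ≫ ·) h).trans (Iso.hom_inv_id_assoc μ (b ≫ γ.inv))
    exact (congrArg (· ≫ γ.hom) h1).trans ((Category.assoc b γ.inv γ.hom).trans
      (by rw [Iso.inv_hom_id, Category.comp_id]))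
  have htepi : Epi t := by
    refine F.epi_of_epi_map ?_
    rw [F.map_preimage]
    exact epi_comp' inferInstance (epi_comp' inferInstance inferInstance)
  have hL' : PicF.IsInvertible L' := by
    obtain ⟨α, -⟩ := PicAux.exists_associator L' ((Scheme.Modules.pullback q).obj L) N
    obtain ⟨β⟩ := hinv
    exact PicAux.isInvertible_of_iso (PicAux.isInvertible_tensorMod hQ.inv hN)
      (((SecTwist.unitorR L').symm) ≪≫ PicGrp.tensorModIso (Iso.refl L') β.symm ≪≫ α.symm ≪≫
        PicGrp.tensorModIso γ (Iso.refl N)).symm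
  obtain ⟨r₂, ⟨h₂, τ₂, hτ₂⟩, -⟩ := hP.univ q hL' t htepi
  -- the composite on the twisted bundle
  have hQQ : r₂ ≫ r₁ = 𝟙 Q := by
    obtain ⟨ν, hν⟩ := quotBC_twistQuot h₂ L a
    refine (hQ.univ q hQ.inv b hQ.epi).unique ⟨by rw [Category.assoc, h₁, h₂], ?_⟩
      ⟨Category.id_comp _, (Scheme.Modules.pullbackId Q).app O1', GrassRep.quotBC_id (Category.id_comp q) b⟩
    refine ⟨((Scheme.Modules.pullbackComp r₂ r₁).symm.app O1' ≪≫
      (Scheme.Modules.pullback r₂).mapIso τ₁) ≪≫ ν ≪≫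
        (DCoh.tensorRightMod ((Scheme.Modules.pullback q).obj L)).mapIso τ₂ ≪≫ γ, ?_⟩
    simp only [Iso.trans_hom, Iso.app_hom, Iso.symm_hom, Functor.mapIso_hom]
    refine (Category.assoc _ _ _).symm.trans ?_
    rw [GrassRep.quotBC_base_change h₂ h₁ b _ τ₁ hτ₁]
    refine (Category.assoc _ _ _).symm.trans ?_
    rw [hν]
    have h4 : twistQuot q L t = twistQuot q L (Grass.quotBC h₂ a) ≫
        (DCoh.tensorRightMod ((Scheme.Modules.pullback q).obj L)).map τ₂.hom := by
      rw [← twistQuot_comp, hτ₂]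
    refine Eq.trans ?_ ((congrArg (· ≫ γ.hom) h4).symm.trans ht)
    exact (Category.assoc (twistQuot q L (Grass.quotBC h₂ a))
      ((DCoh.tensorRightMod ((Scheme.Modules.pullback q).obj L)).map τ₂.hom) γ.hom).symm
  -- the composite on the untwisted bundle
  have hPP : r₁ ≫ r₂ = 𝟙 P := by
    obtain ⟨ν, hν⟩ := quotBC_twistQuot h₁ L t
    let G := DCoh.tensorRightMod ((Scheme.Modules.pullback p).obj L)
    let θ : (Scheme.Modules.pullback r₁).obj L' ≅ O1 :=
      G.preimageIso (ν.symm ≪≫ (Scheme.Modules.pullback r₁).mapIso γ ≪≫ τ₁)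
    have hθ : Grass.quotBC h₁ t ≫ θ.hom = a := by
      refine G.map_injective ((cancel_epi (PicAux.exists_pullback_tensorMod p E L).choose.hom).1 ?_)
      change twistQuot p L _ = twistQuot p L a
      rw [twistQuot_comp, ← hν, ← hτ₁, ← ht, GrassRep.quotBC_comp]
      simp [θ, G]
      rfl
    refine (hP.univ p hP.inv a hP.epi).unique ⟨by rw [Category.assoc, h₂, h₁], ?_⟩
      ⟨Category.id_comp _, (Scheme.Modules.pullbackId P).app O1, GrassRep.quotBC_id (Category.id_comp p) a⟩
    refine ⟨((Scheme.Modules.pullbackComp r₁ r₂).symm.app O1 ≪≫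
      (Scheme.Modules.pullback r₁).mapIso τ₂) ≪≫ θ, ?_⟩
    simp only [Iso.trans_hom, Iso.app_hom, Iso.symm_hom, Functor.mapIso_hom]
    rw [← Category.assoc, GrassRep.quotBC_base_change h₁ h₂ a _ τ₂ hτ₂, hθ]
  exact ⟨⟨r₁, r₂, hPP, hQQ⟩, h₁, ⟨τ₁⟩⟩

end Groth.ProjTwist
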