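import Groth.Agent.GrassSub.Affine
import Groth.Agent.GrassSub.Glue
import Groth.Agent.Quot.Transport

/-!
# The Grassmannian of a coherent module over any scheme
-/

set_option autoImplicit false
set_option linter.style.haveILetI false

universe u

open CategoryTheory Limits AlgebraicGeometry TopologicalSpace
open Groth.Quot

noncomputable section

namespace Groth.GrassSub

variable {S : Scheme.{u}} (E : S.Modules) (d : ℕ)

/-- Having a finite locally free quotient of rank `d`. -/
def rankCond : LocalCond (𝟙 S) E where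
  P _ K := FlatMod.IsFinLocFreeOfRank d (cokernel K.arrow)
  pull g _ h := isFinLocFreeOfRank_quotPull (𝟙 S) g h
  coh h := KTheory.LocFree.isCoh (LocFree.isFinLocFree_of_rank h)
  localP {T ι V} g _ hg K h := isFinLocFreeOfRank_cover fun x => by
    obtain ⟨i, hi⟩ := hg (PicF.XTproj (𝟙 S) T x)
    refine ⟨_, PicF.XTmap (𝟙 S) (g i), inferInstance,
      (mem_opensRange_XTmap (𝟙 S) (g i) x).2 hi, ?_⟩
    obtain ⟨θ, -⟩ := exists_quotPull_cokernel_iso (𝟙 S) (g i) K
    exact LocFree.isFinLocFreeOfRank_of_iso θ.symm (h i)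

variable {E d}

set_option maxHeartbeats 1000000 in
/-- The Grassmannian over an affine open. -/
theorem exists_chart (hE : Coh.IsCoh E) (U : S.affineOpens) :
    ∃ c : LocalChart (rankCond E d) U, IsProper c.k := by
  let R : Type u := Γ(S, U.1)
  let φ : S₀ R ⟶ S := U.2.fromSpec
  have H : IsPullback φ (f₀ R) (𝟙 S) φ := IsPullback.of_vert_isIso ⟨by simp⟩
  let E' := (Scheme.Modules.pullback φ).obj E
  let ε : (Scheme.Modules.pullback φ).obj E ≅ E' := Iso.refl _
  obtain ⟨G, K', hGp, hr, huniv⟩ :=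
    exists_universal_affine R E' (FlatStrata.isCoh_pullback φ hE) d
  have hrank : ∀ (T : Over (S₀ R)) (K : Subobject (FGA.ET (𝟙 S) E ((Over.map φ).obj T))),
      FlatMod.IsFinLocFreeOfRank d (cokernel (bcSub H ε T K).arrow) ↔
        FlatMod.IsFinLocFreeOfRank d (cokernel K.arrow) := by
    intro T K
    obtain ⟨θ⟩ := exists_bcSub_cokernel_iso H ε T K
    let j := (bcIso H T).hom
    constructor
    · intro h
      exact LocFree.isFinLocFreeOfRank_of_iso
        ((Scheme.Modules.pullback (inv j)).mapIso θ.symm ≪≫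
          canP (IsIso.inv_hom_id j) (cokernel K.arrow) ≪≫ (Scheme.Modules.pullbackId _).app _)
        (LocFree.isFinLocFreeOfRank_pullback (inv j) h)
    · intro h
      exact LocFree.isFinLocFreeOfRank_of_iso θ (LocFree.isFinLocFreeOfRank_pullback j h)
  obtain ⟨K₀, hK₀⟩ := (bcSub_bijective H ε G).2 K'
  let k : G.left ⟶ (U.1 : Scheme.{u}) := G.hom ≫ U.2.isoSpec.inv
  have hk : k ≫ U.1.ι = ((Over.map φ).obj G).hom := by
    show (G.hom ≫ U.2.isoSpec.inv) ≫ U.1.ι = G.hom ≫ φ
    rw [Category.assoc, U.2.isoSpec_inv_ι]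
  have hkp : IsProper k := inferInstanceAs (IsProper (G.hom ≫ U.2.isoSpec.inv))
  refine ⟨⟨(Over.map φ).obj G, k, hk, K₀, (hrank G K₀).1 (hK₀ ▸ hr), ?_⟩, hkp⟩
  intro T hT K'' hK''
  obtain ⟨T', rfl⟩ : ∃ T' : Over (S₀ R), (Over.map φ).obj T' = T := by
    have hsub : Set.range T.hom ⊆ Set.range φ := by rwa [U.2.range_fromSpec]
    have hl : IsOpenImmersion.lift φ T.hom hsub ≫ φ = T.hom := IsOpenImmersion.lift_fac _ _ _
    exact ⟨Over.mk (IsOpenImmersion.lift φ T.hom hsub), by
      refine Eq.trans ?_ (rfl : Over.mk T.hom = T)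
      exact congrArg Over.mk hl⟩
  obtain ⟨u, hu, huu⟩ := huniv T' (bcSub H ε T' K'') ((hrank T' K'').2 hK'')
  have key : ∀ w : T' ⟶ G, FGA.quotPull (𝟙 S) E ((Over.map φ).map w) K₀ = K'' ↔
      FGA.quotPull (f₀ R) E' w K' = bcSub H ε T' K'' := fun w => by
    rw [← hK₀, quotPull_bcSub]
    exact ⟨fun h => congrArg (bcSub H ε T') h, fun h => (bcSub_bijective H ε T').1 h⟩
  refine ⟨(Over.map φ).map u, (key u).2 hu, fun v hv => ?_⟩
  let w : T' ⟶ G := Over.homMk v.left ((cancel_mono φ).1 (by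
    rw [Category.assoc]
    exact Over.w v))
  have hwv : (Over.map φ).map w = v := Over.OverMorphism.ext rfl
  rw [← hwv] at hv ⊢
  rw [huu w ((key w).1 hv)]

/-- Locally free quotients of rank `d` of a coherent module are represented by a proper scheme. -/
theorem exists_universal (hE : Coh.IsCoh E) (d : ℕ) :
    ∃ (G : Over S) (K : Subobject (FGA.ET (𝟙 S) E G)), IsProper G.hom ∧
      FlatMod.IsFinLocFreeOfRank d (cokernel K.arrow) ∧
      ∀ (T : Over S) (K' : Subobject (FGA.ET (𝟙 S) E T)),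
        FlatMod.IsFinLocFreeOfRank d (cokernel K'.arrow) →
          ∃! g : T ⟶ G, FGA.quotPull (𝟙 S) E g K = K' := by
  choose c hc using fun U => exists_chart (d := d) hE U
  exact LocalChart.exists_glued c @IsProper hc

end Groth.GrassSub
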