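import Groth.Agent.GrassRep.Locus
import Groth.Agent.GrassRep.MapOfEpi
import Groth.Agent.OmegaSheaf.IsoLocal
import Groth.Agent.PicAux.GenLocal
import Groth.Agent.LocFree.Rank
import Groth.Agent.PicAux.QCoh

/-!
# Sub-bundles of projective bundles
-/

set_option autoImplicit false
set_option linter.style.haveILetI false
set_option backward.isDefEq.respectTransparency.types false

universe u

open CategoryTheory Limits AlgebraicGeometry TopologicalSpace
open Groth.PicAux (res res_res Gen pullSec pullSec_smul)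

noncomputable section

namespace Groth.GrassSub

/-- A morphism to an invertible module which is nonzero at every point is an epimorphism. -/
theorem epi_of_fiber_ne_zero {Y : Scheme.{u}} {M L : Y.Modules} [M.IsQuasicoherent]
    (hL : PicF.IsInvertible L) (β : M ⟶ L)
    (h : ∀ z, (Scheme.Modules.pullback (Y.fromSpecResidueField z)).map β ≠ 0) : Epi β := by
  have := PicAux.isQCoh_of_isInvertible hL
  refine OmegaSheaf.epi_of_affine_cover _ fun z => ?_
  obtain ⟨U₀, t₀, hzU₀, ht₀⟩ := (PicAux.isInvertible_iff_exists_gen L).1 hL z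
  obtain ⟨V, hV, hzV, hVU⟩ := exists_isAffineOpen_mem_and_subset (x := z) (U := U₀) hzU₀
  have hgen := ht₀.res hVU
  -- some section has a coefficient which does not vanish at `z`
  obtain ⟨m, r, hr, hzr⟩ : ∃ (m : Γ(M, V)) (r : Γ(Y, V)),
      β.app V m = r • res L hVU t₀ ∧ z ∈ Y.basicOpen r := by
    by_contra hcon
    push Not at hcon
    refine h z (GrassRep.pullback_map_eq_zero _ β (fun _ : PUnit.{1} => V) (fun _ => hV)
      (fun y => ⟨⟨⟩, ?_⟩) fun _ m => ?_)
    · show Y.fromSpecResidueField z y ∈ V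
      rw [Scheme.fromSpecResidueField_apply]
      exact hzV
    obtain ⟨r, hr⟩ := hgen.exists_coeff le_rfl (β.app V m)
    rw [PicAux.res_self] at hr
    rw [hr, pullSec_smul]
    have h0 : (Y.fromSpecResidueField z).app V r = 0 := by
      refine (basicOpen_eq_bot_iff _).1 (bot_unique fun y hy => ?_)
      rw [← Scheme.preimage_basicOpen] at hy
      have hy' : Y.fromSpecResidueField z y ∈ Y.basicOpen r := hy
      rw [Scheme.fromSpecResidueField_apply] at hy'
      exact hcon m r hr hy'
    rw [h0, zero_smul]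
  -- near `z` the image of this section generates
  refine ⟨Y.basicOpen r, hV.basicOpen r, hzr, fun y => ?_⟩
  have hle := Y.basicOpen_le r
  obtain ⟨c, hc⟩ := hgen.exists_coeff hle y
  obtain ⟨u, hu⟩ : IsUnit (Y.presheaf.map (homOfLE hle).op r) := RingedSpace.isUnit_res_basicOpen _ _
  refine ⟨(c * ↑u⁻¹) • res M hle m, ?_⟩
  rw [Scheme.Modules.Hom.app_smul, PicAux.app_res, hr, PicAux.res_smul, smul_smul, hc]
  congr 1
  refine Eq.trans ?_ (u.inv_mul_cancel_right c)
  exact congrArg (c * ↑u⁻¹ * ·) hu.symm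

variable {X P PB : Scheme.{u}} {S : ShortComplex X.Modules}
  {π : P ⟶ X} {O1 : P.Modules} {q : (Scheme.Modules.pullback π).obj S.X₂ ⟶ O1}
  {πB : PB ⟶ X} {O1B : PB.Modules} {qB : (Scheme.Modules.pullback πB).obj S.X₃ ⟶ O1B}
  {c : PB ⟶ P}

/-- Away from the bundle of the quotient the sub-module surjects onto the fundamental sheaf. -/
theorem epi_restrict_comp (hS : S.ShortExact) [S.X₁.IsQuasicoherent]
    (hP : KRR.IsProjBundle π S.X₂ O1 q) (hPB : KRR.IsProjBundle πB S.X₃ O1B qB)
    (hc : c ≫ π = πB) (ec : (Scheme.Modules.pullback c).obj O1 ≅ O1B)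
    (hcq : (Scheme.Modules.pullbackCongr hc).inv.app S.X₂ ≫ (Scheme.Modules.pullbackComp c π).inv.app S.X₂ ≫
      (Scheme.Modules.pullback c).map q ≫ ec.hom = (Scheme.Modules.pullback πB).map S.g ≫ qB)
    (W : P.Opens) (hW : Disjoint (W : Set P) (Set.range c.base)) :
    Epi ((Scheme.Modules.pullback W.ι).map ((Scheme.Modules.pullback π).map S.f ≫ q)) := by
  have hP' := Grass.IsGrass.of_isProjBundle hP
  have hPB' := Grass.IsGrass.of_isProjBundle hPB
  have := hP'.epi
  have := hPB'.epi
  have hqc := QCohMod.isQCoh_pullback_obj π S.X₁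
  have hqc' := QCohMod.isQCoh_pullback_obj W.ι ((Scheme.Modules.pullback π).obj S.X₁)
  have hO1 := LocFree.isFinLocFreeOfRank_pullback W.ι hP'.rank
  refine epi_of_fiber_ne_zero (LocFree.isInvertible_iff_ofRank_one.2 hO1) _ fun z h0 => ?_
  let x : Spec ((W : Scheme.{u}).residueField z) ⟶ P := (W : Scheme.{u}).fromSpecResidueField z ≫ W.ι
  -- the restriction of the composite to the point vanishes
  have hx0 : (Scheme.Modules.pullback x).map ((Scheme.Modules.pullback π).map S.f ≫ q) = 0 := by
    have h1 := (Scheme.Modules.pullbackComp ((W : Scheme.{u}).fromSpecResidueField z) W.ι).hom.naturality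
      ((Scheme.Modules.pullback π).map S.f ≫ q)
    rw [Functor.comp_map, h0, zero_comp] at h1
    rw [← cancel_epi ((Scheme.Modules.pullbackComp ((W : Scheme.{u}).fromSpecResidueField z) W.ι).hom.app _),
      ← h1, comp_zero]
  let g₀ := x ≫ π
  let s := Grass.quotBC (rfl : x ≫ π = g₀) q
  have hs : Epi s := GrassRep.epi_quotBC _ q
  have hfs : (Scheme.Modules.pullback g₀).map S.f ≫ s = 0 := by
    rw [← GrassRep.quotBC_map]
    simp only [Grass.quotBC]
    rw [hx0, comp_zero, comp_zero]
  -- hence the quotient comes from the quotient module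
  have := hS.epi_g
  have : PreservesColimitsOfSize.{0, 0} (Scheme.Modules.pullback g₀) :=
    (Scheme.Modules.pullbackPushforwardAdjunction g₀).leftAdjoint_preservesColimits
  obtain ⟨sB, hsB⟩ := CokernelCofork.IsColimit.desc'
    (CokernelCofork.mapIsColimit _ hS.gIsCokernel (Scheme.Modules.pullback g₀)) s hfs
  have hsBe : Epi sB := by
    have : Epi ((Scheme.Modules.pullback g₀).map S.g ≫ sB) := by
      rw [show (Scheme.Modules.pullback g₀).map S.g ≫ sB = s from hsB]
      exact hs
    exact epi_of_epi ((Scheme.Modules.pullback g₀).map S.g) sB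
  have hrk := LocFree.isFinLocFreeOfRank_pullback x hP'.rank
  obtain ⟨y, ⟨hy, τ, hτ⟩, -⟩ := hPB'.univ _ g₀ _ hrk sB hsBe
  have hxy : x = y ≫ c := by
    refine (hP'.univ _ g₀ _ hrk s hs).unique ⟨rfl, Iso.refl _, Category.comp_id _⟩
      ⟨by rw [Category.assoc, hc, hy],
        ((Scheme.Modules.pullbackComp y c).symm.app O1 ≪≫ (Scheme.Modules.pullback y).mapIso ec) ≪≫ τ, ?_⟩
    have hcq' : Grass.quotBC hc q ≫ ec.hom = (Scheme.Modules.pullback πB).map S.g ≫ qB := by
      rw [← hcq]
      simp only [Grass.quotBC, Category.assoc]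
    simp only [Iso.trans_hom, Iso.app_hom, Iso.symm_hom, Functor.mapIso_hom]
    refine (Category.assoc _ _ _).symm.trans ?_
    rw [GrassRep.quotBC_base_change hy hc q _ ec hcq', GrassRep.quotBC_map, Category.assoc, hτ]
    exact hsB
  obtain ⟨pt⟩ : Nonempty (Spec ((W : Scheme.{u}).residueField z)) := inferInstance
  have hmem : W.ι ((W : Scheme.{u}).fromSpecResidueField z pt) ∈ Set.range c.base := by
    refine ⟨y pt, ?_⟩
    rw [← Scheme.Hom.comp_apply, ← Scheme.Hom.comp_apply]
    exact congrArg (fun m : _ ⟶ P => m pt) hxy.symm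
  exact Set.disjoint_left.1 hW ((W : Scheme.{u}).fromSpecResidueField z pt).2 hmem

end Groth.GrassSub
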